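import Cfsg.Agent.Lib.SuzChar.Cusp

/-! Exceptional characters for a self-centralising abelian subgroup with normalizer of index four. -/

set_option autoImplicit false
set_option linter.style.haveILetI false
set_option linter.unusedSectionVars false

namespace Cfsg.Agent.Lib.SuzChar

open Cfsg Cfsg.Agent.Lib
open scoped ComplexConjugate

universe u

theorem exists_diff {X : Type*} [Fintype X] [DecidableEq X] (w : X → ℤ) (d : X → ℕ) (hd : ∀ x, 0 < d x)
    (h2 : ∑ x, w x ^ 2 = 2) (h0 : ∑ x, w x * d x = 0) :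
    ∃ p r, p ≠ r ∧ ∀ x, w x = (if x = p then 1 else 0) - (if x = r then 1 else 0) := by
  obtain ⟨p, hp⟩ : ∃ p, 0 < w p := by
    by_contra hno
    push Not at hno
    have h := (Finset.sum_eq_zero_iff_of_nonpos fun x _ =>
      mul_nonpos_of_nonpos_of_nonneg (hno x) (Int.natCast_nonneg (d x))).1 h0
    have : ∀ x, w x = 0 := fun x => by
      have := h x (Finset.mem_univ x)
      exact (mul_eq_zero.1 this).resolve_right (by have := hd x; omega)
    simp [this] at h2
  obtain ⟨r, hr⟩ : ∃ r, w r < 0 := by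
    by_contra hno
    push Not at hno
    have h := (Finset.sum_eq_zero_iff_of_nonneg fun x _ =>
      mul_nonneg (hno x) (Int.natCast_nonneg (d x))).1 h0 p (Finset.mem_univ p)
    rcases mul_eq_zero.1 h with h | h
    · omega
    · have := hd p; omega
  have hpr : p ≠ r := fun e => by subst e; omega
  have hsplit : w p ^ 2 + (w r ^ 2 + ∑ x ∈ (Finset.univ.erase p).erase r, w x ^ 2) = 2 := by
    rw [Finset.add_sum_erase _ (fun x => w x ^ 2) (Finset.mem_erase.2 ⟨hpr.symm, Finset.mem_univ r⟩),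
      Finset.add_sum_erase _ (fun x => w x ^ 2) (Finset.mem_univ p), h2]
  have hnn : 0 ≤ ∑ x ∈ (Finset.univ.erase p).erase r, w x ^ 2 := Finset.sum_nonneg fun x _ => sq_nonneg _
  have hp1 : w p = 1 := by nlinarith
  have hr1 : w r = -1 := by nlinarith
  refine ⟨p, r, hpr, fun x => ?_⟩
  by_cases hxp : x = p
  · subst hxp; simp [hp1, hpr]
  by_cases hxr : x = r
  · subst hxr; simp [hr1, hpr.symm]
  have h := (Finset.sum_eq_zero_iff_of_nonneg fun x _ => sq_nonneg (w x)).1
    (show ∑ x ∈ (Finset.univ.erase p).erase r, w x ^ 2 = 0 by rw [hp1, hr1] at hsplit; linarith) x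
    (by simp [hxp, hxr])
  simp [hxp, hxr, pow_eq_zero_iff (two_ne_zero' ℕ) |>.1 h]

/-- integer vectors forming a regular simplex of edge `√2` form a star -/
theorem exists_star {X Q : Type*} [Fintype X] [DecidableEq X] [DecidableEq Q] (v : Q → X → ℤ) (d : X → ℕ)
    (hd : ∀ x, 0 < d x) (K : ℤ) (hv : ∀ i j, ∑ x, v i x * v j x = K + if i = j then 1 else 0)
    (hw : ∀ i j, ∑ x, v i x * d x = ∑ x, v j x * d x) (i0 i1 : Q) (h01 : i1 ≠ i0) :
    ∃ (ε : ℤ) (b : X → ℤ) (κ : Q → X), (ε = 1 ∨ ε = -1) ∧ Function.Injective κ ∧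
      ∀ i x, v i x = b x + ε * if x = κ i then 1 else 0 := by
  have hdiff : ∀ k, k ≠ i0 → ∃ p r, p ≠ r ∧
      ∀ x, v k x - v i0 x = (if x = p then 1 else 0) - (if x = r then 1 else 0) := by
    intro k hk
    refine exists_diff _ d hd ?_ ?_
    · rw [Finset.sum_congr rfl fun x _ => show (v k x - v i0 x) ^ 2 =
        v k x * v k x + v i0 x * v i0 x - 2 * (v k x * v i0 x) by ring,
        Finset.sum_sub_distrib, Finset.sum_add_distrib, ← Finset.mul_sum, hv, hv, hv, if_pos rfl, if_pos rfl,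
        if_neg hk]
      ring
    · simp only [sub_mul, Finset.sum_sub_distrib, hw k i0, sub_self]
  have hdiff' : ∀ k : {k // k ≠ i0}, ∃ p r, p ≠ r ∧
      ∀ x, v k.1 x - v i0 x = (if x = p then 1 else 0) - (if x = r then 1 else 0) := fun k => hdiff k.1 k.2
  choose P R hPR hval using hdiff'
  have hinner : ∀ k l, k ≠ l → ((if P k = P l then (1 : ℤ) else 0) + (if R k = R l then 1 else 0)) -
      ((if P k = R l then 1 else 0) + (if R k = P l then 1 else 0)) = 1 := by
    intro k l hkl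
    have h : ∑ x, (v k.1 x - v i0 x) * (v l.1 x - v i0 x) = 1 := by
      simp only [sub_mul, mul_sub, Finset.sum_sub_distrib, hv, if_pos rfl, if_true, if_neg k.2, if_neg (Ne.symm l.2),
        if_neg fun e => hkl (Subtype.ext e)]
      ring
    simp only [hval, sub_mul, ite_mul, one_mul, zero_mul, Finset.sum_sub_distrib, Finset.sum_ite_eq',
      Finset.mem_univ, if_true] at h
    linarith
  have hshare : ∀ k l, k ≠ l → P k = P l ∨ R k = R l := by
    intro k l hkl
    have := hinner k l hkl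
    by_contra hno
    push Not at hno
    rw [if_neg hno.1, if_neg hno.2] at this
    split_ifs at this <;> omega
  have hnot : ∀ k l, k ≠ l → ¬ (P k = P l ∧ R k = R l) := by
    rintro k l hkl ⟨e1, e2⟩
    have := hinner k l hkl
    have n1 : P k ≠ R l := e2 ▸ hPR k
    have n2 : R k ≠ P l := e1 ▸ (hPR k).symm
    rw [if_pos e1, if_pos e2, if_neg n1, if_neg n2] at this
    omega
  let k1 : {k // k ≠ i0} := ⟨i1, h01⟩
  by_cases hII : ∃ k l, k ≠ l ∧ R k = R l
  · obtain ⟨k, l, hkl, e⟩ := hII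
    have hall : ∀ n, R n = R k := by
      intro n
      by_cases h1 : n = k
      · rw [h1]
      by_cases h2 : n = l
      · rw [h2, e]
      by_contra hne
      have a1 := (hshare n k h1).resolve_right hne
      have a2 := (hshare n l h2).resolve_right (fun e' => hne (e'.trans e.symm))
      exact hnot k l hkl ⟨a1.symm.trans a2, e⟩
    refine ⟨1, fun x => v i0 x - if x = R k then 1 else 0,
      fun i => if h : i = i0 then R k else P ⟨i, h⟩, Or.inl rfl, ?_, ?_⟩
    · intro i j hij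
      simp only at hij
      by_cases hi : i = i0 <;> by_cases hj : j = i0
      · rw [hi, hj]
      · rw [dif_pos hi, dif_neg hj, ← hall ⟨j, hj⟩] at hij
        exact absurd hij.symm (hPR _)
      · rw [dif_neg hi, dif_pos hj, ← hall ⟨i, hi⟩] at hij
        exact absurd hij (hPR _)
      · rw [dif_neg hi, dif_neg hj] at hij
        by_contra hne
        exact hnot ⟨i, hi⟩ ⟨j, hj⟩ (fun e => hne (congrArg Subtype.val e)) ⟨hij, (hall _).trans (hall _).symm⟩
    · intro i x
      by_cases hi : i = i0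
      · simp [hi]
      · have h := hval ⟨i, hi⟩ x
        rw [hall] at h
        simp only [dif_neg hi] at h ⊢
        linarith
  · push Not at hII
    have hall : ∀ n, P n = P k1 := by
      intro n
      by_cases h1 : n = k1
      · rw [h1]
      exact (hshare n k1 h1).resolve_right (hII n k1 h1)
    refine ⟨-1, fun x => v i0 x + if x = P k1 then 1 else 0,
      fun i => if h : i = i0 then P k1 else R ⟨i, h⟩, Or.inr rfl, ?_, ?_⟩
    · intro i j hij
      simp only at hij
      by_cases hi : i = i0 <;> by_cases hj : j = i0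
      · rw [hi, hj]
      · rw [dif_pos hi, dif_neg hj, ← hall ⟨j, hj⟩] at hij
        exact absurd hij (hPR _)
      · rw [dif_neg hi, dif_pos hj, ← hall ⟨i, hi⟩] at hij
        exact absurd hij.symm (hPR _)
      · rw [dif_neg hi, dif_neg hj] at hij
        by_contra hne
        exact hII ⟨i, hi⟩ ⟨j, hj⟩ (fun e => hne (congrArg Subtype.val e)) hij
    · intro i x
      by_cases hi : i = i0
      · simp only [hi, dif_pos]
        split_ifs <;> ring
      · have h := hval ⟨i, hi⟩ x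
        rw [hall] at h
        simp only [dif_neg hi] at h ⊢
        linarith

variable {G : Type u} [Group G] [Fintype G] (A : Subgroup G)

/-- the hypotheses on `A` -/
structure TorusHyp : Prop where
  cent : ∀ a ∈ A, a ≠ 1 → Subgroup.centralizer ({a} : Set G) = A
  card_nor : Nat.card (Subgroup.normalizer (A : Set G)) = 4 * Nat.card A
  big : 2 ≤ Nat.card A

variable {A} (hA : TorusHyp A)

include hA

theorem TorusHyp.comm {a b : G} (ha : a ∈ A) (hb : b ∈ A) : a * b = b * a := by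
  by_cases h : a = 1
  · subst h; simp
  · have := hA.cent a ha h ▸ hb
    exact (Subgroup.mem_centralizer_singleton_iff.1 this).symm

theorem TorusHyp.mem_nor {a g : G} (ha : a ∈ A) (h1 : a ≠ 1) (hg : g * a * g⁻¹ ∈ A) :
    g ∈ Subgroup.normalizer (A : Set G) := by
  have h1' : g * a * g⁻¹ ≠ 1 := fun e => h1 (conj_eq_one_iff.1 e)
  have hC1 := hA.cent a ha h1
  have hC2 := hA.cent _ hg h1'
  refine Subgroup.mem_normalizer_iff.2 fun t => ?_
  conv_lhs => rw [← hC1, Subgroup.mem_centralizer_singleton_iff]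
  conv_rhs => rw [← hC2, Subgroup.mem_centralizer_singleton_iff]
  constructor
  · intro h
    calc g * t * g⁻¹ * (g * a * g⁻¹) = g * (t * a) * g⁻¹ := by group
      _ = g * (a * t) * g⁻¹ := by rw [h]
      _ = _ := by group
  · intro h
    have : g * (t * a) * g⁻¹ = g * (a * t) * g⁻¹ := by
      calc g * (t * a) * g⁻¹ = g * t * g⁻¹ * (g * a * g⁻¹) := by group
        _ = g * a * g⁻¹ * (g * t * g⁻¹) := h
        _ = _ := by group
    exact mul_left_cancel (mul_right_cancel this)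

omit hA

/-- conjugation of a linear character -/
def twist (x : ↥(Subgroup.normalizer (A : Set G))) (θ : ↥A →* ℂˣ) : ↥A →* ℂˣ where
  toFun a := θ ⟨(x : G) * a * (x : G)⁻¹, (Subgroup.mem_normalizer_iff.1 x.2 a).1 a.2⟩
  map_one' := by
    rw [← map_one θ]; congr 1; exact Subtype.ext (by simp)
  map_mul' a b := by
    rw [← map_mul θ]; congr 1; exact Subtype.ext (by simp [mul_assoc])

theorem twist_apply (x : ↥(Subgroup.normalizer (A : Set G))) (θ : ↥A →* ℂˣ) (a : ↥A) :
    twist x θ a = θ ⟨(x : G) * a * (x : G)⁻¹, (Subgroup.mem_normalizer_iff.1 x.2 a).1 a.2⟩ := rfl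

theorem twist_one_left (θ : ↥A →* ℂˣ) : twist 1 θ = θ :=
  MonoidHom.ext fun a => by rw [twist_apply]; congr 1; exact Subtype.ext (by simp)

theorem twist_mul (x y : ↥(Subgroup.normalizer (A : Set G))) (θ : ↥A →* ℂˣ) :
    twist y (twist x θ) = twist (x * y) θ :=
  MonoidHom.ext fun a => by rw [twist_apply, twist_apply, twist_apply]; congr 1; exact Subtype.ext (by simp [mul_assoc])

theorem twist_one (x : ↥(Subgroup.normalizer (A : Set G))) : twist x (1 : ↥A →* ℂˣ) = 1 :=
  MonoidHom.ext fun _ => rfl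

include hA in
theorem twist_mem (x : ↥(Subgroup.normalizer (A : Set G))) (hx : (x : G) ∈ A) (θ : ↥A →* ℂˣ) :
    twist x θ = θ :=
  MonoidHom.ext fun a => by
    rw [twist_apply]; congr 1
    exact Subtype.ext (by simp [hA.comm hx a.2])

include hA in
theorem twist_fix {x : ↥(Subgroup.normalizer (A : Set G))} {θ : ↥A →* ℂˣ} (h : twist x θ = θ) (hθ : θ ≠ 1) :
    (x : G) ∈ A := by
  by_contra hx
  apply hθ
  let φ : ↥A → ↥A := fun a => (⟨(x : G) * a * (x : G)⁻¹, (Subgroup.mem_normalizer_iff.1 x.2 a).1 a.2⟩ : ↥A) * a⁻¹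
  have hinj : Function.Injective φ := by
    intro a b e
    have e' : (x : G) * a * (x : G)⁻¹ * (a : G)⁻¹ = (x : G) * b * (x : G)⁻¹ * (b : G)⁻¹ := congrArg Subtype.val e
    by_contra hne
    have hd : (b : G)⁻¹ * a ≠ 1 := fun e => hne (Subtype.ext (inv_mul_eq_one.1 e).symm)
    have hdA : (b : G)⁻¹ * a ∈ A := mul_mem (inv_mem b.2) a.2
    apply hx
    refine (hA.cent _ hdA hd).le (Subgroup.mem_centralizer_singleton_iff.2 ?_)
    rw [← mul_inv_eq_iff_eq_mul]
    have e3 : (x : G) * a * (x : G)⁻¹ = (x : G) * b * (x : G)⁻¹ * ((b : G)⁻¹ * a) := by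
      rw [← mul_assoc, ← e', inv_mul_cancel_right]
    rw [← mul_right_inj ((x : G) * b * (x : G)⁻¹), ← e3]
    group
  have hsur := (Finite.injective_iff_surjective.1 hinj)
  refine MonoidHom.ext fun t => ?_
  obtain ⟨a, rfl⟩ := hsur t
  rw [MonoidHom.one_apply, map_mul, map_inv, ← twist_apply x θ a, h, mul_inv_cancel]

/-- the multiplicity of `θ` in the restriction to `A` -/
noncomputable def mult (χ : IrrCharacter G) (θ : ↥A →* ℂˣ) [Fintype ↥A] : ℂ :=
  (Nat.card ↥A : ℂ)⁻¹ * ∑ a : ↥A, χ.1 a * conj (θ a : ℂ)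

theorem mult_nat [Fintype ↥A] (χ : IrrCharacter G) (θ : ↥A →* ℂˣ) : ∃ k : ℕ, mult χ θ = k :=
  Char.classInner_natCast (Char.isCharacter_restrict (Char.isCharacter_of_isIrr χ.2) A)
    (Char.isCharacter_of_isIrr (Char.isIrrCharacter_linear θ))

theorem sum_mult [Fintype ↥A] (θ : ↥A →* ℂˣ) {g : G}
    (hg : ∀ a ∈ A, a ≠ 1 → ¬ IsConj a g) [Decidable (g = 1)] :
    ∑ χ : IrrCharacter G, mult χ θ * conj (χ.1 g) =
      (Nat.card ↥A : ℂ)⁻¹ * if g = 1 then (Nat.card G : ℂ) else 0 := by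
  classical
  simp only [mult, mul_assoc, ← Finset.mul_sum, Finset.sum_mul]
  rw [Finset.sum_comm]
  congr 1
  rw [Finset.sum_eq_single 1 (fun a _ ha => ?_) (fun h => absurd (Finset.mem_univ _) h)]
  · simp only [map_one, Units.val_one, one_mul, OneMemClass.coe_one, Char.sum_irr_mul_conj]
    by_cases h : g = 1
    · subst h
      rw [if_pos (IsConj.refl _), if_pos rfl]
      have : (Finset.univ.filter fun x : G => IsConj x 1) = {1} := by
        ext x; simp
      rw [this]; simp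
    · rw [if_neg h, if_neg fun e => h (isConj_one_right.1 e)]
  · rw [Finset.sum_congr rfl fun χ _ => show χ.1 a * (conj (θ a : ℂ) * conj (χ.1 g)) =
      conj (θ a : ℂ) * (χ.1 a * conj (χ.1 g)) by ring, ← Finset.mul_sum, Char.sum_irr_mul_conj,
      if_neg (hg a a.2 fun e => ha (Subtype.ext e)), mul_zero]

include hA

theorem TorusHyp.card_conj {a : G} (ha : a ∈ A) (h1 : a ≠ 1) (f : ↥A → ℂ) [Fintype ↥A]
    [Fintype ↥(Subgroup.normalizer (A : Set G))] [DecidablePred fun b : ↥A => IsConj a (b : G)] :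
    ∑ x : ↥(Subgroup.normalizer (A : Set G)),
        f ⟨(x : G) * a * (x : G)⁻¹, (Subgroup.mem_normalizer_iff.1 x.2 a).1 ha⟩ =
      (Nat.card ↥A : ℂ) * ∑ b : ↥A, if IsConj a (b : G) then f b else 0 := by
  classical
  rw [← Finset.sum_filter, Finset.mul_sum]
  rw [← Finset.sum_fiberwise_of_maps_to (g := fun x : ↥(Subgroup.normalizer (A : Set G)) =>
    (⟨(x : G) * a * (x : G)⁻¹, (Subgroup.mem_normalizer_iff.1 x.2 a).1 ha⟩ : ↥A))
    (t := Finset.univ.filter fun b : ↥A => IsConj a (b : G))]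
  · refine Finset.sum_congr rfl fun b hb => ?_
    obtain ⟨g, hg⟩ := isConj_iff.1 (Finset.mem_filter.1 hb).2
    have hgN := hA.mem_nor ha h1 (g := g) (hg ▸ b.2)
    rw [Finset.sum_congr rfl fun x hx => congrArg f (Finset.mem_filter.1 hx).2, Finset.sum_const, nsmul_eq_mul]
    congr 1
    rw [← Fintype.card_subtype, ← Nat.card_eq_fintype_card]
    norm_cast
    refine Nat.card_congr
      { toFun := fun x => ⟨g⁻¹ * (x.1 : G), by
          refine (hA.cent a ha h1).le (Subgroup.mem_centralizer_singleton_iff.2 ?_)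
          have e : (x.1 : G) * a * (x.1 : G)⁻¹ = g * a * g⁻¹ := (congrArg Subtype.val x.2).trans hg.symm
          calc g⁻¹ * (x.1 : G) * a = g⁻¹ * ((x.1 : G) * a * (x.1 : G)⁻¹) * (x.1 : G) := by group
            _ = g⁻¹ * (g * a * g⁻¹) * (x.1 : G) := by rw [e]
            _ = _ := by group⟩
        invFun := fun t => ⟨⟨g * t, mul_mem hgN (Subgroup.le_normalizer t.2)⟩, Subtype.ext (by
          show g * t * a * (g * t)⁻¹ = b
          rw [← hg, mul_assoc g (t : G) a, hA.comm t.2 ha]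
          group)⟩
        left_inv := fun x => by ext; simp
        right_inv := fun t => by ext; simp }
  · intro x _
    exact Finset.mem_filter.2 ⟨Finset.mem_univ _, isConj_iff.2 ⟨x, rfl⟩⟩

open scoped Classical in
theorem gram [Fintype ↥A] [Fintype ↥(Subgroup.normalizer (A : Set G))] (θ η : ↥A →* ℂˣ) :
    ∑ χ : IrrCharacter G, mult χ θ * mult χ η =
      ((Nat.card G : ℂ) - 4 * Nat.card ↥A) / (Nat.card ↥A : ℂ) ^ 2 +
        (Nat.card ↥A : ℂ)⁻¹ * (Finset.univ.filter fun x => twist x η = θ).card := by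
  classical
  set N := (Nat.card ↥A : ℂ) with hN
  have hN0 : N ≠ 0 := Nat.cast_ne_zero.2 Nat.card_pos.ne'
  have h1 : ∀ χ : IrrCharacter G, mult χ θ * mult χ η =
      N⁻¹ * N⁻¹ * ∑ a : ↥A, ∑ b : ↥A, conj (θ a : ℂ) * (η b : ℂ) * (χ.1 a * conj (χ.1 b)) := by
    intro χ
    obtain ⟨k, hk⟩ := mult_nat χ η
    rw [show mult χ η = conj (mult χ η) by rw [hk, Complex.conj_natCast]]
    simp only [mult, map_mul, map_inv₀, Complex.conj_natCast, map_sum, Complex.conj_conj, ← hN,
      show conj N = N from Complex.conj_natCast _]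
    rw [show N⁻¹ * (∑ a : ↥A, χ.1 a * conj (θ a : ℂ)) * (N⁻¹ * ∑ b : ↥A, conj (χ.1 b) * (η b : ℂ)) =
      N⁻¹ * N⁻¹ * ((∑ a : ↥A, χ.1 a * conj (θ a : ℂ)) * ∑ b : ↥A, conj (χ.1 b) * (η b : ℂ)) by ring,
      Finset.sum_mul_sum]
    congr 1
    exact Finset.sum_congr rfl fun a _ => Finset.sum_congr rfl fun b _ => by ring
  rw [Finset.sum_congr rfl fun χ _ => h1 χ, ← Finset.mul_sum, Finset.sum_comm]
  have h2 : ∀ a : ↥A, ∑ χ : IrrCharacter G, ∑ b : ↥A, conj (θ a : ℂ) * (η b : ℂ) * (χ.1 a * conj (χ.1 b)) =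
      if a = 1 then (Nat.card G : ℂ)
      else ∑ x : ↥(Subgroup.normalizer (A : Set G)), (twist x η a : ℂ) * conj (θ a : ℂ) := by
    intro a
    rw [Finset.sum_comm]
    simp only [← Finset.mul_sum, Char.sum_irr_mul_conj]
    have hcardc : ∀ b : ↥A, IsConj (a : G) b →
        ((Finset.univ.filter fun x => IsConj x (b : G)).card : ℂ) =
          ((Subgroup.centralizer ({(b : G)} : Set G)).index : ℂ) := fun b _ => by
      congr 1; convert Char.card_conjClass_eq_index (b : G)
    by_cases ha : a = 1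
    · subst ha
      rw [if_pos rfl, Finset.sum_eq_single 1]
      · simp only [map_one, Units.val_one, one_mul, OneMemClass.coe_one, if_pos (IsConj.refl _)]
        have : (Finset.univ.filter fun x : G => IsConj x 1) = {1} := by ext x; simp
        rw [this]; simp
      · intro b _ hb
        rw [if_neg fun e => hb (Subtype.ext (isConj_one_right.1 (by simpa using e))), mul_zero]
      · simp
    · rw [if_neg ha]
      have ha1 : (a : G) ≠ 1 := fun e => ha (Subtype.ext e)
      have h := hA.card_conj a.2 ha1 (fun b => (η b : ℂ) * conj (θ a : ℂ))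
      rw [show ∑ x : ↥(Subgroup.normalizer (A : Set G)), (twist x η a : ℂ) * conj (θ a : ℂ) =
        ∑ x : ↥(Subgroup.normalizer (A : Set G)), (fun b : ↥A => (η b : ℂ) * conj (θ a : ℂ))
          ⟨(x : G) * a * (x : G)⁻¹, (Subgroup.mem_normalizer_iff.1 x.2 a).1 a.2⟩ from rfl, h, Finset.mul_sum]
      refine Finset.sum_congr rfl fun b _ => ?_
      split_ifs with hb
      · have hb1 : (b : G) ≠ 1 := fun e => ha1 (isConj_one_left.1 (e ▸ hb))
        rw [hcardc b hb, hA.cent _ b.2 hb1, ← Subgroup.card_mul_index A, Nat.cast_mul, mul_div_assoc,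
          div_self (Nat.cast_ne_zero.2 Subgroup.index_ne_zero_of_finite), mul_one]
        ring
      · rw [mul_zero, mul_zero]
  rw [Finset.sum_congr rfl fun a _ => h2 a, ← Finset.add_sum_erase _ _ (Finset.mem_univ (1 : ↥A)), if_pos rfl,
    Finset.sum_congr rfl fun a ha => if_neg (Finset.mem_erase.1 ha).1, Finset.sum_comm]
  have h3 : ∀ x : ↥(Subgroup.normalizer (A : Set G)),
      ∑ a ∈ Finset.univ.erase (1 : ↥A), (twist x η a : ℂ) * conj (θ a : ℂ) =
        N * (if twist x η = θ then 1 else 0) - 1 := by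
    intro x
    have h := Char.classInner_irr (Char.isIrrCharacter_linear (twist x η)) (Char.isIrrCharacter_linear θ)
    rw [classInner, inv_mul_eq_iff_eq_mul₀ hN0, ← Finset.add_sum_erase _ _ (Finset.mem_univ (1 : ↥A))] at h
    simp only [map_one, Units.val_one, map_one, mul_one] at h
    by_cases e : twist x η = θ
    · rw [if_pos (by rw [e])] at h
      rw [if_pos e]
      linear_combination h
    · rw [if_neg fun e' => e (MonoidHom.ext fun g => Units.ext (congrFun e' g))] at h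
      rw [if_neg e]
      linear_combination h
  rw [Finset.sum_congr rfl fun x _ => h3 x, Finset.sum_sub_distrib, ← Finset.mul_sum, Finset.sum_boole,
    Finset.sum_const, Finset.card_univ, ← Nat.card_eq_fintype_card, hA.card_nor, nsmul_eq_mul]
  push_cast [← hN]
  field_simp
  ring

/-- multiplicities as integers -/
theorem exists_exceptional [Fintype ↥A] (h3 : 9 ≤ Nat.card ↥A) :
    ∃ (Fam : Finset (IrrCharacter G)) (n : IrrCharacter G → ℤ) (ε n₀ : ℤ),
      (ε = 1 ∨ ε = -1) ∧ 4 * Fam.card + 1 = Nat.card ↥A ∧ (∀ χ ∈ Fam, n χ = n₀) ∧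
      (∑ χ : IrrCharacter G, n χ ^ 2) - 2 * ε * n₀ = 4 ∧
      (∀ χ ∉ Fam, (∀ a ∈ A, a ≠ 1 → χ.1 a = n χ) ∧
        ∃ k : ℤ, χ.1 1 = ((n χ + k * Nat.card ↥A : ℤ) : ℂ)) ∧
      (∀ χ ∈ Fam, (∀ a ∈ A, a ≠ 1 → ‖χ.1 a - n₀‖ ≤ 4) ∧
        ∃ k : ℤ, χ.1 1 = ((n₀ + 4 * ε + k * Nat.card ↥A : ℤ) : ℂ)) ∧
      (∀ χ ∈ Fam, ∀ ψ ∈ Fam, ∀ g, (∀ a ∈ A, a ≠ 1 → ¬ IsConj a g) → χ.1 g = ψ.1 g) := by
  classical
  haveI : Fintype ↥(Subgroup.normalizer (A : Set G)) := Fintype.ofFinite _
  haveI : Fintype (↥A →* ℂˣ) := by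
    letI : CommGroup ↥A := { mul_comm := fun a b => Subtype.ext (hA.comm a.2 b.2) }
    exact Fintype.ofFinite _
  set N := Nat.card ↥A with hN
  have hN0 : (N : ℂ) ≠ 0 := Nat.cast_ne_zero.2 Nat.card_pos.ne'
  choose M hM using fun (χ : IrrCharacter G) (θ : ↥A →* ℂˣ) => mult_nat χ θ
  -- the number of normalizer elements moving `η` to `θ`
  let cnt : (↥A →* ℂˣ) → (↥A →* ℂˣ) → ℕ := fun θ η => (Finset.univ.filter fun x => twist x η = θ).card
  have hcnt : ∀ θ η, θ ≠ 1 → (∃ x, twist x η = θ) → cnt θ η = N := by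
    rintro θ η hθ ⟨y, hy⟩
    rw [hN, show cnt θ η = _ from (Fintype.card_subtype _).symm, ← Nat.card_eq_fintype_card]
    refine Nat.card_congr
      { toFun := fun x => ⟨((y⁻¹ * x.1 : ↥(Subgroup.normalizer (A : Set G))) : G), twist_fix hA (θ := θ) (by
          have e := congrArg (twist (y⁻¹ * x.1)) hy
          rw [twist_mul, mul_inv_cancel_left, x.2] at e
          exact e.symm) hθ⟩
        invFun := fun t => ⟨y * ⟨t, Subgroup.le_normalizer t.2⟩, by
          rw [← twist_mul, hy, twist_mem hA ⟨(t : G), Subgroup.le_normalizer t.2⟩ t.2]⟩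
        left_inv := fun x => by ext; simp
        right_inv := fun t => by ext; simp }
  let s : Setoid {θ : ↥A →* ℂˣ // θ ≠ 1} :=
    { r := fun θ η => ∃ x, twist x η.1 = θ.1
      iseqv :=
        ⟨fun θ => ⟨1, twist_one_left _⟩,
          fun {a b} ⟨x, hx⟩ => ⟨x⁻¹, by rw [← hx, twist_mul, mul_inv_cancel, twist_one_left]⟩,
          fun {a b d} ⟨x, hx⟩ ⟨y, hy⟩ => ⟨y * x, by rw [← twist_mul, hy, hx]⟩⟩ }
  let Q := Quotient s
  haveI : Fintype Q := Fintype.ofFinite _
  let K : ℂ := ((Nat.card G : ℂ) - 4 * N) / (N : ℂ) ^ 2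
  have hgram : ∀ θ η : {θ : ↥A →* ℂˣ // θ ≠ 1}, ∑ χ : IrrCharacter G, ((M χ θ.1 : ℂ) * M χ η.1) =
      K + if (⟦θ⟧ : Q) = ⟦η⟧ then 1 else 0 := by
    intro θ η
    simp only [← hM]
    rw [gram hA]
    rw [← hN]
    congr 1
    split_ifs with h
    · rw [show (Finset.univ.filter fun x => twist x η.1 = θ.1).card = N from
        hcnt _ _ θ.2 (Quotient.exact h : s.r θ η), inv_mul_cancel₀ hN0]
    · rw [Finset.card_eq_zero.2, Nat.cast_zero, mul_zero]
      exact Finset.filter_eq_empty_iff.2 fun x _ hx => h (Quotient.sound (s := s) ⟨x, hx⟩)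
  have hgram1 : ∀ θ : {θ : ↥A →* ℂˣ // θ ≠ 1}, ∑ χ : IrrCharacter G, ((M χ 1 : ℂ) * M χ θ.1) = K := by
    intro θ
    simp only [← hM]
    rw [gram hA]
    rw [← hN, Finset.card_eq_zero.2, Nat.cast_zero, mul_zero, add_zero]
    exact Finset.filter_eq_empty_iff.2 fun x _ hx => θ.2 (by
      have := congrArg (twist x⁻¹) hx
      rwa [twist_mul, mul_inv_cancel, twist_one_left, twist_one] at this)
  have hgram11 : ∑ χ : IrrCharacter G, ((M χ 1 : ℂ) * M χ 1) = K + 4 := by
    simp only [← hM]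
    rw [gram hA]
    rw [← hN]
    congr 1
    rw [Finset.filter_true_of_mem fun x _ => twist_one x, Finset.card_univ, ← Nat.card_eq_fintype_card,
      hA.card_nor, ← hN]
    push_cast
    field_simp
  have hcardA : Nat.card (↥A →* ℂˣ) = N := by
    letI : CommGroup ↥A := { mul_comm := fun a b => Subtype.ext (hA.comm a.2 b.2) }
    exact CommGroup.card_monoidHom_of_hasEnoughRootsOfUnity ↥A ℂ
  have hfib : ∀ i : Q, Nat.card {θ : {θ : ↥A →* ℂˣ // θ ≠ 1} // (⟦θ⟧ : Q) = i} = 4 := by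
    intro i
    induction i using Quotient.inductionOn with
    | _ θ =>
      have hsum : ∑ η : ↥A →* ℂˣ, cnt θ.1 η = 4 * N := by
        have hfix : ∀ x, (Finset.univ.filter fun η => twist x η = θ.1).card = 1 := fun x =>
          Finset.card_eq_one.2 ⟨twist x⁻¹ θ.1, by
            ext η
            simp only [Finset.mem_filter, Finset.mem_univ, true_and, Finset.mem_singleton]
            constructor
            · intro e; rw [← e, twist_mul, mul_inv_cancel, twist_one_left]
            · rintro rfl; rw [twist_mul, inv_mul_cancel, twist_one_left]⟩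
        have : ∑ η : ↥A →* ℂˣ, cnt θ.1 η =
            ∑ x : ↥(Subgroup.normalizer (A : Set G)), (Finset.univ.filter fun η => twist x η = θ.1).card := by
          simp only [cnt, Finset.card_filter]
          exact Finset.sum_comm
        rw [this, Finset.sum_congr rfl fun x _ => hfix x, Finset.sum_const, Finset.card_univ,
          ← Nat.card_eq_fintype_card, hA.card_nor, smul_eq_mul, mul_one]
      have hval : ∀ η : ↥A →* ℂˣ, cnt θ.1 η = if ∃ x, twist x η = θ.1 then N else 0 := fun η => by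
        split_ifs with h
        · exact hcnt _ _ θ.2 h
        · exact Finset.card_eq_zero.2 (Finset.filter_eq_empty_iff.2 fun x _ hx => h ⟨x, hx⟩)
      simp only [hval, ← Finset.sum_filter, Finset.sum_const, smul_eq_mul] at hsum
      have h4 := Nat.eq_of_mul_eq_mul_right Nat.card_pos hsum
      rw [← h4, ← Fintype.card_subtype, ← Nat.card_eq_fintype_card]
      refine Nat.card_congr
        { toFun := fun η => ⟨η.1.1, Quotient.exact (s := s) η.2.symm⟩
          invFun := fun η => ⟨⟨η.1, fun e => θ.2 (by obtain ⟨x, hx⟩ := η.2; rw [e, twist_one] at hx; exact hx.symm)⟩,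
            Quotient.sound (s := s) (s.iseqv.symm η.2)⟩
          left_inv := fun η => rfl
          right_inv := fun η => rfl }
  have hQ : 4 * Fintype.card Q + 1 = N := by
    have h1 : Nat.card {θ : ↥A →* ℂˣ // θ ≠ 1} = 4 * Fintype.card Q := by
      rw [← Nat.card_congr (Equiv.sigmaFiberEquiv fun θ => (⟦θ⟧ : Q)), Nat.card_sigma,
        Finset.sum_congr rfl fun i _ => hfib i, Finset.sum_const, Finset.card_univ, smul_eq_mul, mul_comm]
    have h2 : Nat.card {θ : ↥A →* ℂˣ // θ ≠ 1} + 1 = N := by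
      rw [← hcardA, Nat.card_eq_fintype_card, Nat.card_eq_fintype_card, Fintype.card_subtype_compl,
        Fintype.card_subtype_eq]
      have : 0 < Fintype.card (↥A →* ℂˣ) := Fintype.card_pos
      omega
    omega
  obtain ⟨i0, i1, h01⟩ : ∃ i0 i1 : Q, i1 ≠ i0 := by
    obtain ⟨a, b, h⟩ := Fintype.exists_pair_of_one_lt_card (show 1 < Fintype.card Q by omega)
    exact ⟨a, b, h.symm⟩
  have hdeg : ∀ χ : IrrCharacter G, ∃ d : ℕ, 0 < d ∧ χ.1 1 = d := fun χ => by
    obtain ⟨d, hd⟩ := Char.exists_natDegree (Char.isCharacter_of_isIrr χ.2)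
    exact ⟨d, Nat.pos_of_ne_zero fun e => Char.irr_degree_ne_zero χ.2 (by rw [hd, e, Nat.cast_zero]), hd⟩
  choose d hd0 hd using hdeg
  let v : Q → IrrCharacter G → ℤ := fun i χ => (M χ i.out.1 : ℤ)
  -- the integer version of `K`
  obtain ⟨Kz, hKz⟩ : ∃ Kz : ℤ, K = Kz :=
    ⟨∑ χ, (M χ 1 : ℤ) * (M χ i0.out.1 : ℤ), by rw [← hgram1 i0.out]; push_cast; rfl⟩
  obtain ⟨ε, b, κ, hε, hκ, hstar⟩ := exists_star v d hd0 Kz (fun i j => by
      have h := hgram i.out j.out
      rw [Quotient.out_eq, Quotient.out_eq, hKz] at h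
      simp only [v]
      split_ifs at h ⊢ <;> exact_mod_cast h)
    (fun i j => by
      have e : ∀ i : Q, ((∑ χ, v i χ * d χ : ℤ) : ℂ) = (N : ℂ)⁻¹ * Nat.card G := fun i => by
        rw [Int.cast_sum]
        have h := sum_mult i.out.1 (g := 1) fun a _ ha e => ha (isConj_one_left.1 e)
        rw [if_pos rfl] at h
        rw [← h]
        exact Finset.sum_congr rfl fun χ _ => by rw [hM, hd, Complex.conj_natCast]; simp [v]
      exact_mod_cast (e i).trans (e j).symm) i0 i1 h01
  -- multiplicities do not depend on the representative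
  have hcls : ∀ χ (θ : {θ : ↥A →* ℂˣ // θ ≠ 1}), (M χ θ.1 : ℤ) = b χ + ε * if χ = κ ⟦θ⟧ then 1 else 0 := by
    intro χ θ
    rw [← hstar ⟦θ⟧ χ]
    simp only [v]
    obtain ⟨x, hx⟩ : s.r (⟦θ⟧ : Q).out θ := Quotient.mk_out θ
    have e : mult χ θ.1 = mult χ (⟦θ⟧ : Q).out.1 := by
      rw [← hx]
      simp only [mult]
      congr 1
      refine (Fintype.sum_bijective (fun a : ↥A =>
        (⟨(x : G) * a * (x : G)⁻¹, (Subgroup.mem_normalizer_iff.1 x.2 a).1 a.2⟩ : ↥A)) ?_ _ _ fun a => ?_).symm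
      · exact Finite.injective_iff_bijective.1 fun a b e =>
          Subtype.ext (mul_left_cancel (mul_right_cancel (congrArg Subtype.val e)))
      · rw [twist_apply, (Char.isClassFunction_of_isIrr χ.2) a x]
    rw [hM, hM] at e
    exact_mod_cast e
  let n : IrrCharacter G → ℤ := fun χ => (M χ 1 : ℤ) - b χ
  have hM1 : ∀ χ, (M χ 1 : ℤ) = b χ + n χ := fun χ => by simp [n]
  -- inner products of the differences
  have hdot : ∀ i j, ∑ χ, n χ * ((if χ = κ i then (1 : ℤ) else 0) - (if χ = κ j then 1 else 0)) = n (κ i) - n (κ j) := by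
    intro i j
    simp [mul_sub, Finset.sum_sub_distrib]
  have hint : ∀ i j, (∑ χ, (M χ 1 : ℤ) * v i χ = Kz) ∧ (∑ χ, v i χ * v j χ = Kz + if i = j then 1 else 0) := by
    intro i j
    constructor
    · have h := hgram1 i.out
      rw [hKz] at h
      simp only [v]
      exact_mod_cast h
    · have h := hgram i.out j.out
      rw [Quotient.out_eq, Quotient.out_eq, hKz] at h
      simp only [v]
      split_ifs at h ⊢ <;> exact_mod_cast h
  have h11 : ∑ χ, (M χ 1 : ℤ) * (M χ 1 : ℤ) = Kz + 4 := by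
    have h := hgram11
    rw [hKz] at h
    exact_mod_cast h
  have hε2 : ε * ε = 1 := by rcases hε with rfl | rfl <;> norm_num
  have hnc : ∀ i j, n (κ i) = n (κ j) := by
    intro i j
    have h : ∑ χ, ((M χ 1 : ℤ) - v i0 χ) * (v i χ - v j χ) =
        -(if i0 = i then 1 else 0) + (if i0 = j then 1 else 0) := by
      simp only [sub_mul, mul_sub, Finset.sum_sub_distrib, (hint i i).1, (hint j j).1, (hint i0 i).2, (hint i0 j).2]
      ring
    have e : ∀ χ, ((M χ 1 : ℤ) - v i0 χ) * (v i χ - v j χ) =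
        ε * (n χ * ((if χ = κ i then (1 : ℤ) else 0) - (if χ = κ j then 1 else 0))) -
          ((if χ = κ i0 then (1 : ℤ) else 0) * ((if χ = κ i then (1 : ℤ) else 0) - (if χ = κ j then 1 else 0))) := by
      intro χ
      rw [hstar, hstar, hstar, hM1]
      linear_combination -(((if χ = κ i0 then (1 : ℤ) else 0) * ((if χ = κ i then (1 : ℤ) else 0) - (if χ = κ j then 1 else 0)))) * hε2
    rw [Finset.sum_congr rfl fun χ _ => e χ, Finset.sum_sub_distrib, ← Finset.mul_sum, hdot] at h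
    simp only [ite_mul, one_mul, zero_mul, Finset.sum_ite_eq', Finset.mem_univ, if_true, hκ.eq_iff] at h
    have : ε * (n (κ i) - n (κ j)) = 0 := by linarith
    rcases mul_eq_zero.1 this with h' | h'
    · rcases hε with rfl | rfl <;> omega
    · omega
  have hnorm : (∑ χ, n χ ^ 2) - 2 * ε * n (κ i0) = 4 := by
    have h : ∑ χ, ((M χ 1 : ℤ) - v i0 χ) ^ 2 = 5 := by
      rw [Finset.sum_congr rfl fun χ _ => show ((M χ 1 : ℤ) - v i0 χ) ^ 2 =
        (M χ 1 : ℤ) * M χ 1 + v i0 χ * v i0 χ - 2 * ((M χ 1 : ℤ) * v i0 χ) by ring,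
        Finset.sum_sub_distrib, Finset.sum_add_distrib, ← Finset.mul_sum, h11, (hint i0 i0).1, (hint i0 i0).2,
        if_pos rfl]
      ring
    have e : ∀ χ, ((M χ 1 : ℤ) - v i0 χ) ^ 2 =
        n χ ^ 2 - 2 * ε * (if χ = κ i0 then n χ else 0) + (if χ = κ i0 then 1 else 0) := by
      intro χ
      rw [hstar, hM1]
      split_ifs
      · linear_combination hε2
      · ring
    rw [Finset.sum_congr rfl fun χ _ => e χ, Finset.sum_add_distrib, Finset.sum_sub_distrib, ← Finset.mul_sum] at h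
    simp only [Finset.sum_ite_eq', Finset.mem_univ, if_true] at h
    linarith
  have hsumθ : ∀ a : ↥A, a ≠ 1 → ∑ θ ∈ Finset.univ.erase (1 : ↥A →* ℂˣ), (θ a : ℂ) = -1 := by
    intro a ha
    letI : CommGroup ↥A := { mul_comm := fun a b => Subtype.ext (hA.comm a.2 b.2) }
    have h := sum_all_homs (H := ↥A) a
    rw [if_neg ha, ← Finset.add_sum_erase _ _ (Finset.mem_univ (1 : ↥A →* ℂˣ))] at h
    simp only [MonoidHom.one_apply, Units.val_one] at h
    linear_combination h
  have hfour : ∀ (χ : IrrCharacter G) (a : ↥A), χ.1 a = ∑ θ : ↥A →* ℂˣ, (M χ θ : ℂ) * (θ a : ℂ) := by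
    intro χ a
    letI : CommGroup ↥A := { mul_comm := fun a b => Subtype.ext (hA.comm a.2 b.2) }
    simp only [← hM, mult, Finset.mul_sum, Finset.sum_mul]
    rw [Finset.sum_comm]
    have e : ∀ (t : ↥A) (θ : ↥A →* ℂˣ), (N : ℂ)⁻¹ * (χ.1 t * conj (θ t : ℂ)) * (θ a : ℂ) =
        (N : ℂ)⁻¹ * χ.1 t * (θ (t⁻¹ * a) : ℂ) := by
      intro t θ
      rw [conj_hom_apply, map_mul, map_inv, Units.val_mul, Units.val_inv_eq_inv_val]
      ring
    rw [← hN]
    simp only [e, ← Finset.mul_sum, sum_all_homs, inv_mul_eq_one]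
    simp only [mul_ite, mul_zero, Finset.sum_ite_eq', Finset.mem_univ, if_true]
    rw [← Nat.card_eq_fintype_card, ← hN]
    field_simp
  let Fam := Finset.univ.image κ
  have hsplit : ∀ (χ : IrrCharacter G) (a : ↥A), a ≠ 1 → χ.1 a = (n χ : ℂ) +
      (ε : ℂ) * ∑ θ ∈ Finset.univ.erase (1 : ↥A →* ℂˣ),
        (if h : θ ≠ 1 then (if χ = κ ⟦⟨θ, h⟩⟧ then (θ a : ℂ) else 0) else 0) := by
    intro χ a ha
    rw [hfour, ← Finset.add_sum_erase _ _ (Finset.mem_univ (1 : ↥A →* ℂˣ)), Finset.mul_sum]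
    have e : ∀ θ ∈ Finset.univ.erase (1 : ↥A →* ℂˣ), (M χ θ : ℂ) * (θ a : ℂ) = (b χ : ℂ) * (θ a : ℂ) +
        (ε : ℂ) * (if h : θ ≠ 1 then (if χ = κ ⟦⟨θ, h⟩⟧ then (θ a : ℂ) else 0) else 0) := by
      intro θ hθ
      have h := (Finset.mem_erase.1 hθ).1
      rw [dif_pos h]
      have e := hcls χ ⟨θ, h⟩
      simp only at e
      have e' : (M χ θ : ℂ) = ((b χ + ε * if χ = κ ⟦⟨θ, h⟩⟧ then 1 else 0 : ℤ) : ℂ) := by rw [← e]; simp
      rw [e']
      split_ifs <;> push_cast <;> ring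
    rw [Finset.sum_congr rfl e, Finset.sum_add_distrib, ← Finset.mul_sum, hsumθ a ha]
    simp only [MonoidHom.one_apply, Units.val_one, mul_one, n]
    push_cast
    ring
  have hdeg' : ∀ χ, (d χ : ℤ) = b χ + n χ + b χ * (4 * Fintype.card Q) +
      ε * ∑ θ : {θ : ↥A →* ℂˣ // θ ≠ 1}, if χ = κ ⟦θ⟧ then 1 else 0 := by
    intro χ
    have h := hfour χ 1
    simp only [OneMemClass.coe_one, hd, map_one, Units.val_one, mul_one] at h
    have h' : (d χ : ℤ) = ∑ θ : ↥A →* ℂˣ, (M χ θ : ℤ) := by exact_mod_cast h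
    rw [h', ← Finset.add_sum_erase _ _ (Finset.mem_univ (1 : ↥A →* ℂˣ)), hM1,
      Finset.sum_subtype (Finset.univ.erase (1 : ↥A →* ℂˣ)) (p := fun θ => θ ≠ 1) (by simp)
        (fun θ => (M χ θ : ℤ)), Finset.sum_congr rfl fun θ _ => hcls χ θ, Finset.sum_add_distrib,
      ← Finset.mul_sum, Finset.sum_const, Finset.card_univ, nsmul_eq_mul]
    have : Fintype.card {θ : ↥A →* ℂˣ // θ ≠ 1} = 4 * Fintype.card Q := by
      rw [← Nat.card_eq_fintype_card, ← Nat.card_congr (Equiv.sigmaFiberEquiv fun θ => (⟦θ⟧ : Q)), Nat.card_sigma,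
        Finset.sum_congr rfl fun i _ => hfib i, Finset.sum_const, Finset.card_univ, smul_eq_mul, mul_comm]
    rw [this]
    push_cast
    ring
  have hcountin : ∀ i, ∑ θ : {θ : ↥A →* ℂˣ // θ ≠ 1}, (if κ i = κ ⟦θ⟧ then (1 : ℤ) else 0) = 4 := by
    intro i
    rw [Finset.sum_boole, Finset.filter_congr fun θ _ => (hκ.eq_iff : κ i = κ ⟦θ⟧ ↔ _), ← Fintype.card_subtype,
      ← Nat.card_eq_fintype_card, Nat.card_congr (Equiv.subtypeEquivRight fun θ => eq_comm), hfib i]
    rfl
  refine ⟨Fam, n, ε, n (κ i0), hε, ?_, ?_, hnorm, ?_, ?_, ?_⟩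
  · rw [Finset.card_image_of_injective _ hκ, Finset.card_univ, hQ]
  · intro χ hχ
    obtain ⟨i, -, rfl⟩ := Finset.mem_image.1 hχ
    exact hnc _ _
  · intro χ hχ
    have hno : ∀ i, χ ≠ κ i := fun i e => hχ (Finset.mem_image.2 ⟨i, Finset.mem_univ _, e.symm⟩)
    refine ⟨fun a ha h1 => ?_, b χ, ?_⟩
    · rw [show χ.1 a = χ.1 ((⟨a, ha⟩ : ↥A) : G) from rfl,
        hsplit χ ⟨a, ha⟩ fun e => h1 (congrArg Subtype.val e), Finset.sum_eq_zero, mul_zero, add_zero]
      intro θ _
      split_ifs with h1 h2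
      · exact absurd h2 (hno _)
      · rfl
      · rfl
    · rw [hd]
      have h := hdeg' χ
      rw [Finset.sum_eq_zero fun θ _ => if_neg (hno _), mul_zero, add_zero] at h
      have : (d χ : ℤ) = n χ + b χ * N := by rw [h, ← hQ]; push_cast; ring
      exact_mod_cast this
  · intro χ hχ
    obtain ⟨i, -, rfl⟩ := Finset.mem_image.1 hχ
    refine ⟨fun a ha h1 => ?_, b (κ i), ?_⟩
    · rw [show (κ i).1 a = (κ i).1 ((⟨a, ha⟩ : ↥A) : G) from rfl,
        hsplit (κ i) ⟨a, ha⟩ fun e => h1 (congrArg Subtype.val e), hnc i i0, add_sub_cancel_left, norm_mul]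
      have hεn : ‖(ε : ℂ)‖ = 1 := by rcases hε with rfl | rfl <;> simp
      rw [hεn, one_mul]
      refine (norm_sum_le _ _).trans ?_
      refine le_of_le_of_eq (Finset.sum_le_sum (g := fun θ : ↥A →* ℂˣ =>
        if h : θ ≠ 1 then (if κ i = κ ⟦⟨θ, h⟩⟧ then (1 : ℝ) else 0) else 0) fun θ _ => ?_) ?_
      · have hnorm1 : ‖(θ ⟨a, ha⟩ : ℂ)‖ = 1 :=
          Char.norm_eq_one_of_pow_orderOf (g := (⟨a, ha⟩ : ↥A)) (by
            rw [← Units.val_pow_eq_pow_val, ← map_pow, pow_orderOf_eq_one, map_one, Units.val_one])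
        split_ifs <;> simp [hnorm1]
      · rw [Finset.sum_subtype (Finset.univ.erase (1 : ↥A →* ℂˣ)) (p := fun θ => θ ≠ 1) (by simp)]
        have e := hcountin i
        have e' : (∑ θ : {θ : ↥A →* ℂˣ // θ ≠ 1}, if κ i = κ ⟦θ⟧ then (1 : ℝ) else 0) = 4 := by
          rw [Finset.sum_boole] at e ⊢
          exact_mod_cast e
        rw [← e']
        exact Finset.sum_congr rfl fun θ _ => by rw [dif_pos θ.2]
    · rw [hd]
      have h := hdeg' (κ i)
      rw [hcountin, hnc i i0] at h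
      have : (d (κ i) : ℤ) = n (κ i0) + 4 * ε + b (κ i) * N := by rw [h, ← hQ]; push_cast; ring
      exact_mod_cast this
  · intro χ hχ ψ hψ g hg
    obtain ⟨i, -, rfl⟩ := Finset.mem_image.1 hχ
    obtain ⟨j, -, rfl⟩ := Finset.mem_image.1 hψ
    have h := (sum_mult i.out.1 hg).trans (sum_mult j.out.1 hg).symm
    simp only [hM] at h
    have e : ∀ (k : Q) (χ : IrrCharacter G), (M χ k.out.1 : ℂ) = (b χ : ℂ) + (ε : ℂ) * if χ = κ k then 1 else 0 := by
      intro k χ
      have e' : (M χ k.out.1 : ℂ) = ((v k χ : ℤ) : ℂ) := by simp [v]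
      rw [e', hstar]
      split_ifs <;> push_cast <;> ring
    simp only [e, add_mul, Finset.sum_add_distrib, mul_assoc, ← Finset.mul_sum, ite_mul, one_mul, zero_mul,
      Finset.sum_ite_eq', Finset.mem_univ, if_true] at h
    have hεc : (ε : ℂ) ≠ 0 := by rcases hε with rfl | rfl <;> simp
    exact RingHom.injective (starRingEnd ℂ) (mul_left_cancel₀ hεc (add_left_cancel h))

end Cfsg.Agent.Lib.SuzChar
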