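import Cfsg.Agent.Lib.SuzChar.Unipotent
import Cfsg.Agent.Lib.SuzChar.Star
import Cfsg.Agent.Lib.Suz.Fixity

/-! Numerical consequences of column orthogonality for the cuspidal characters. -/

set_option autoImplicit false
set_option linter.style.haveILetI false
set_option linter.unusedSectionVars false

namespace Cfsg.Agent.Lib.SuzChar

open Cfsg Cfsg.Agent.Lib.Suz Cfsg.Agent.Lib
open scoped ComplexConjugate
open Complex (I)

universe u

variable {F : Type u} [Field F] [Fintype F] [CharP F 2] {m : ℕ} (c : Ctx F m)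
variable [DecidableEq F] [Fintype ↥(Cfsg.Sz F m)]

include c

theorem card_eq_two_sq : Fintype.card F = 2 * (2 ^ m) ^ 2 := by
  rw [c.hF, pow_succ, ← pow_mul, mul_comm 2 m]; ring

theorem p_two_le : (2 : ℤ) ≤ (2 : ℤ) ^ m := le_self_pow₀ (by norm_num) (by have := c.hm; omega)

theorem card_homs_eq [Fintype (Fˣ →* ℂˣ)] : (Fintype.card (Fˣ →* ℂˣ) : ℂ) = (Fintype.card F : ℂ) - 1 := by
  rw [← card_units_eq c, ← card_homs (H := Fˣ), Nat.card_eq_fintype_card]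

theorem col_uu (g h : ↥(Cfsg.Sz F m)) (hg : g ∈ uSub c) (hg1 : g ≠ 1) (hh : h ∈ uSub c) (hh1 : h ≠ 1)
    [Decidable (IsConj g h)] :
    ∑ χ ∈ cusp c, χ.1 g * conj (χ.1 h) =
      (if IsConj g h then (Nat.card (Subgroup.centralizer ({h} : Set ↥(Cfsg.Sz F m))) : ℂ) else 0) -
        (Fintype.card F : ℂ) / 2 := by
  classical
  haveI : Fintype (Fˣ →* ℂˣ) := Fintype.ofFinite _
  rw [cusp_column, stn_uG c hg hg1, stn_uG c hh hh1]
  simp only [prin_uG c _ hg hg1, prin_uG c _ hh hh1, map_one, mul_one, Finset.sum_const, Finset.card_univ,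
    nsmul_eq_mul, zero_mul, card_homs_eq c]
  ring

theorem col_one_f :
    ∑ χ ∈ cusp c, χ.1 (uG c 1 0) * conj (χ.1 1) =
      -1 - ((Fintype.card F : ℂ) / 2 - 1) * ((Fintype.card F : ℂ) ^ 2 + 1) := by
  classical
  haveI : Fintype (Fˣ →* ℂˣ) := Fintype.ofFinite _
  have h1 : uG c 1 0 ≠ 1 := fun e => by rw [← uG_zero c] at e; exact one_ne_zero (uG_inj c e).1
  rw [cusp_column, if_neg fun e => h1 (isConj_one_left.1 e), stn_uG c (uG_mem_uSub c 1 0) h1]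
  simp only [prin_uG c _ (uG_mem_uSub c 1 0) h1, prin_one, one_mul, zero_mul, map_add, map_pow,
    Complex.conj_natCast, map_one, Finset.sum_const, Finset.card_univ, nsmul_eq_mul, card_homs_eq c]
  ring

theorem col_free (g : ↥(Cfsg.Sz F m)) (hg : IsFree g) :
    ∑ χ ∈ cusp c, χ.1 g * conj (χ.1 g) = (Nat.card (cz g) : ℂ) - 2 := by
  classical
  haveI : Fintype (Fˣ →* ℂˣ) := Fintype.ofFinite _
  rw [cusp_column, if_pos (IsConj.refl g), stn_free c hg]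
  simp only [prin_free c _ hg, zero_mul, Finset.sum_const_zero, map_neg, map_one]
  ring

theorem uG10_ne : uG c 1 0 ≠ 1 := fun e => by rw [← uG_zero c] at e; exact one_ne_zero (uG_inj c e).1

/-- values of a cuspidal character on 2-elements -/
structure UnipVal (χ : ↥(Cfsg.Sz F m) → ℂ) (a k e : ℤ) : Prop where
  a_nonneg : 0 ≤ a
  cong : (2 : ℤ) ^ m ∣ e - a
  one : χ 1 = ((Fintype.card F : ℂ) - 1) * e
  z : χ (uG c 0 1) = (Fintype.card F : ℂ) * a - e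
  f : χ (uG c 1 0) = -(a : ℂ) + ((2 : ℤ) ^ m * k : ℤ) * I

theorem exists_unipVal :
    ∃ a k e : IrrCharacter ↥(Cfsg.Sz F m) → ℤ, ∀ χ ∈ cusp c, UnipVal c χ.1 (a χ) (k χ) (e χ) := by
  classical
  have h : ∀ χ : IrrCharacter ↥(Cfsg.Sz F m), ∃ a k e : ℤ, χ ∈ cusp c → UnipVal c χ.1 a k e := fun χ => by
    by_cases hχ : χ ∈ cusp c
    · obtain ⟨a, k, e, h1, h2, h3, h4, h5⟩ := cusp_unip c hχ
      exact ⟨a, k, e, fun _ => ⟨h1, h2, h3, h4, h5⟩⟩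
    · exact ⟨0, 0, 0, fun h => absurd h hχ⟩
  choose a k e h using h
  exact ⟨a, k, e, h⟩

theorem UnipVal.e_pos {χ : IrrCharacter ↥(Cfsg.Sz F m)} {a k e : ℤ} (h : UnipVal c χ.1 a k e) : 1 ≤ e := by
  obtain ⟨d, hd⟩ := Char.exists_natDegree (Char.isCharacter_of_isIrr χ.2)
  have h0 : d ≠ 0 := fun e => Char.irr_degree_ne_zero χ.2 (by rw [hd, e, Nat.cast_zero])
  have h1 := h.one
  rw [hd] at h1
  have h2 : (d : ℤ) = ((Fintype.card F : ℤ) - 1) * e := by exact_mod_cast h1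
  by_contra hlt
  have : ((Fintype.card F : ℤ) - 1) * e ≤ 0 :=
    mul_nonpos_of_nonneg_of_nonpos (by have := c.eight_le; omega) (by omega)
  omega

theorem unip_sums {a k e : IrrCharacter ↥(Cfsg.Sz F m) → ℤ} (h : ∀ χ ∈ cusp c, UnipVal c χ.1 (a χ) (k χ) (e χ)) :
    ∑ χ ∈ cusp c, a χ ^ 2 = (2 ^ m) ^ 2 ∧ ∑ χ ∈ cusp c, k χ ^ 2 = 2 ∧ ∑ χ ∈ cusp c, a χ * k χ = 0 ∧
      ∑ χ ∈ cusp c, a χ * e χ = (2 ^ m) ^ 2 * (2 * (2 ^ m) ^ 2 - 1) ∧
      ∑ χ ∈ cusp c, e χ ^ 2 = 4 * (2 ^ m) ^ 6 - (2 ^ m) ^ 2 ∧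
      ∑ χ ∈ cusp c, (2 * (2 ^ m) ^ 2 * a χ - e χ) ^ 2 = 4 * (2 ^ m) ^ 4 - (2 ^ m) ^ 2 ∧
      ∑ χ ∈ cusp c, k χ * e χ = 0 := by
  classical
  have hq : (Fintype.card F : ℂ) = 2 * ((2 : ℂ) ^ m) ^ 2 := by rw [card_eq_two_sq c]; push_cast; rfl
  have hp0 : ((2 : ℤ) ^ m) ^ 2 ≠ 0 := by positivity
  have Eff := col_uu c (uG c 1 0) (uG c 1 0) (uG_mem_uSub c 1 0) (uG10_ne c) (uG_mem_uSub c 1 0) (uG10_ne c)
  rw [if_pos (IsConj.refl _), card_cent_f c] at Eff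
  have Efi := col_uu c (uG c 1 0) (uG c 1 0)⁻¹ (uG_mem_uSub c 1 0) (uG10_ne c) (inv_mem (uG_mem_uSub c 1 0))
    (inv_ne_one.2 (uG10_ne c))
  rw [if_neg (f0_not_real c)] at Efi
  have Ezz := col_uu c (uG c 0 1) (uG c 0 1) (uG_mem_uSub c 0 1) (z0_ne c) (uG_mem_uSub c 0 1) (z0_ne c)
  rw [if_pos (IsConj.refl _), card_cent_z c] at Ezz
  have E1f := col_one_f c
  -- translation to integers
  have t1 : ∑ χ ∈ cusp c, χ.1 (uG c 1 0) * conj (χ.1 (uG c 1 0)) =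
      ((∑ χ ∈ cusp c, a χ ^ 2 + ((2 : ℤ) ^ m) ^ 2 * ∑ χ ∈ cusp c, k χ ^ 2 : ℤ) : ℂ) := by
    push_cast
    rw [Finset.mul_sum, ← Finset.sum_add_distrib]
    refine Finset.sum_congr rfl fun χ hχ => ?_
    rw [(h χ hχ).f, map_add, map_mul, map_neg, Complex.conj_I, map_intCast, map_intCast]
    push_cast
    linear_combination -((2 : ℂ) ^ m * k χ) ^ 2 * Complex.I_sq
  have t2 : ∑ χ ∈ cusp c, χ.1 (uG c 1 0) * conj (χ.1 (uG c 1 0)⁻¹) =
      ((∑ χ ∈ cusp c, a χ ^ 2 - ((2 : ℤ) ^ m) ^ 2 * ∑ χ ∈ cusp c, k χ ^ 2 : ℤ) : ℂ) -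
        ((2 * (2 : ℤ) ^ m * ∑ χ ∈ cusp c, a χ * k χ : ℤ) : ℂ) * I := by
    push_cast
    rw [Finset.mul_sum, Finset.mul_sum, Finset.sum_mul, ← Finset.sum_sub_distrib, ← Finset.sum_sub_distrib]
    refine Finset.sum_congr rfl fun χ hχ => ?_
    rw [Char.char_inv (Char.isCharacter_of_isIrr χ.2), Complex.conj_conj, (h χ hχ).f]
    push_cast
    linear_combination ((2 : ℂ) ^ m * k χ) ^ 2 * Complex.I_sq
  have t3 : ∑ χ ∈ cusp c, χ.1 (uG c 0 1) * conj (χ.1 (uG c 0 1)) =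
      ((∑ χ ∈ cusp c, (2 * (2 ^ m) ^ 2 * a χ - e χ) ^ 2 : ℤ) : ℂ) := by
    push_cast
    refine Finset.sum_congr rfl fun χ hχ => ?_
    rw [(h χ hχ).z, map_sub, map_mul, Complex.conj_natCast, map_intCast, map_intCast, hq]
    ring
  have t4 : ∑ χ ∈ cusp c, χ.1 (uG c 1 0) * conj (χ.1 1) =
      -((((2 * (2 ^ m) ^ 2 - 1) * ∑ χ ∈ cusp c, a χ * e χ : ℤ)) : ℂ) +
        ((((2 * (2 ^ m) ^ 2 - 1) * (2 : ℤ) ^ m * ∑ χ ∈ cusp c, k χ * e χ : ℤ)) : ℂ) * I := by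
    push_cast
    rw [Finset.mul_sum, Finset.mul_sum, Finset.sum_mul, ← Finset.sum_neg_distrib, ← Finset.sum_add_distrib]
    refine Finset.sum_congr rfl fun χ hχ => ?_
    rw [(h χ hχ).f, (h χ hχ).one, map_mul, map_sub, Complex.conj_natCast, map_one, map_intCast, hq]
    push_cast
    ring
  rw [t1] at Eff
  rw [t2] at Efi
  rw [t3] at Ezz
  rw [t4] at E1f
  have hAB : ∀ A B C : ℤ, (A : ℂ) + (B : ℂ) * I = (C : ℂ) → A = C ∧ B = 0 := fun A B C h => by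
    have h1 := congrArg Complex.re h
    have h2 := congrArg Complex.im h
    simp at h1 h2
    exact ⟨h1, h2⟩
  rw [card_eq_two_sq c] at Eff Ezz Efi E1f
  push_cast at Eff Ezz
  set S2 := ∑ χ ∈ cusp c, a χ ^ 2
  set K2 := ∑ χ ∈ cusp c, k χ ^ 2
  set T := ∑ χ ∈ cusp c, a χ * k χ
  set X := ∑ χ ∈ cusp c, a χ * e χ with hX
  set Y := ∑ χ ∈ cusp c, k χ * e χ
  obtain ⟨e2, e3⟩ := hAB (S2 - ((2 : ℤ) ^ m) ^ 2 * K2) (-(2 * (2 : ℤ) ^ m * T)) (-(((2 : ℤ) ^ m) ^ 2)) (by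
    push_cast at Efi ⊢
    linear_combination Efi)
  obtain ⟨e4, e5⟩ := hAB (-((2 * ((2 : ℤ) ^ m) ^ 2 - 1) * X)) ((2 * ((2 : ℤ) ^ m) ^ 2 - 1) * (2 : ℤ) ^ m * Y)
    (-1 - (((2 : ℤ) ^ m) ^ 2 - 1) * ((2 * ((2 : ℤ) ^ m) ^ 2) ^ 2 + 1)) (by
    push_cast at E1f ⊢
    linear_combination E1f)
  have e1 : S2 + ((2 : ℤ) ^ m) ^ 2 * K2 = 3 * ((2 : ℤ) ^ m) ^ 2 := by
    apply Int.cast_injective (α := ℂ)
    push_cast [S2, K2]
    linear_combination Eff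
  have hK : K2 = 2 := mul_left_cancel₀ hp0 (by linarith)
  have hS : S2 = ((2 : ℤ) ^ m) ^ 2 := by rw [hK] at e1; linarith
  have hT : T = 0 := (mul_eq_zero.1 (neg_eq_zero.1 e3)).resolve_left (by positivity)
  have hne : (2 * ((2 : ℤ) ^ m) ^ 2 - 1) ≠ 0 := by have := p_two_le c; nlinarith
  have hXe : X = ((2 : ℤ) ^ m) ^ 2 * (2 * (2 ^ m) ^ 2 - 1) := by
    apply mul_left_cancel₀ hne
    linear_combination -e4
  have hZ : ∑ χ ∈ cusp c, (2 * (2 ^ m) ^ 2 * a χ - e χ) ^ 2 = 4 * ((2 : ℤ) ^ m) ^ 4 - ((2 : ℤ) ^ m) ^ 2 := by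
    apply Int.cast_injective (α := ℂ)
    push_cast
    linear_combination Ezz
  refine ⟨hS, hK, hT, hXe, ?_, hZ, (mul_eq_zero.1 e5).resolve_left (mul_ne_zero hne (by positivity))⟩
  have hexp : ∑ χ ∈ cusp c, (2 * (2 ^ m) ^ 2 * a χ - e χ) ^ 2 =
      4 * ((2 : ℤ) ^ m) ^ 4 * S2 - 4 * ((2 : ℤ) ^ m) ^ 2 * X + ∑ χ ∈ cusp c, e χ ^ 2 := by
    rw [hX, Finset.mul_sum, Finset.mul_sum, ← Finset.sum_sub_distrib, ← Finset.sum_add_distrib]
    exact Finset.sum_congr rfl fun χ _ => by ring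
  rw [hZ, hS, hXe] at hexp
  linear_combination -hexp

theorem torus_hyp {g : ↥(Cfsg.Sz F m)} (hg : IsFree g) : TorusHyp (cz g) where
  cent a ha h1 := cz_eq_of_mem c hg ha h1
  card_nor := by
    obtain ⟨x, y, -, -, hcover, hNx, hNy, -, -⟩ := exists_tori c
    have key : ∀ a, g ∈ fset (cz a) →
        Nat.card (Subgroup.normalizer (cz a : Set ↥(Cfsg.Sz F m))) = 4 * Nat.card (cz a) →
        Nat.card (Subgroup.normalizer (cz g : Set ↥(Cfsg.Sz F m))) = 4 * Nat.card (cz g) := by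
      rintro a ⟨-, k, hk⟩ hNa
      have hNN : Subgroup.normalizer (cz g : Set ↥(Cfsg.Sz F m)) =
          (Subgroup.normalizer (cz a : Set ↥(Cfsg.Sz F m))).map (MulAut.conj k).toMonoidHom := by
        ext t
        simp only [hk, Subgroup.mem_map_equiv, MulAut.conj_symm_apply, Subgroup.mem_normalizer_iff,
          SetLike.mem_coe]
        constructor
        · intro h n
          have := h (k * n * k⁻¹)
          simpa [mul_assoc] using this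
        · intro h n
          have := h (k⁻¹ * n * k)
          simpa [mul_assoc] using this
      rw [hNN, hk, Subgroup.card_map_of_injective (MulAut.conj k).injective,
        Subgroup.card_map_of_injective (MulAut.conj k).injective, hNa]
    rcases hcover g hg with h | h
    · exact key x h hNx
    · exact key y h hNy
  big := le_trans (by norm_num) (card_cz_dvd c hg).2

theorem card_cz_cases {g : ↥(Cfsg.Sz F m)} (hg : IsFree g) :
    (Nat.card (cz g) : ℤ) = 2 * (2 ^ m) ^ 2 + 2 * 2 ^ m + 1 ∨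
      (Nat.card (cz g) : ℤ) = 2 * (2 ^ m) ^ 2 - 2 * 2 ^ m + 1 := by
  have h := card_cz_free c hg
  have e1 : 2 ^ (2 * m + 1) = 2 * (2 ^ m) ^ 2 := by rw [← c.hF, card_eq_two_sq c]
  have e2 : 2 ^ (m + 1) = 2 * 2 ^ m := by rw [pow_succ, mul_comm]
  rw [e1, e2] at h
  rcases h with h | h
  · left; rw [h]; push_cast; ring
  · right
    rw [Set.mem_singleton_iff] at h
    rw [h, Nat.cast_add, Nat.cast_sub (by
      have : 1 ≤ 2 ^ m := Nat.one_le_two_pow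
      nlinarith)]
    push_cast
    ring

theorem free_real {g : ↥(Cfsg.Sz F m)} (hg : IsFree g) : IsConj g g⁻¹ := by
  classical
  haveI : Fact (Nat.Prime 2) := ⟨Nat.prime_two⟩
  have hA := torus_hyp c hg
  haveI : Fintype ↥(Subgroup.normalizer (cz g : Set ↥(Cfsg.Sz F m))) := Fintype.ofFinite _
  obtain ⟨w, hw⟩ := exists_prime_orderOf_dvd_card' (G := ↥(Subgroup.normalizer (cz g : Set ↥(Cfsg.Sz F m)))) 2
    (by rw [hA.card_nor]; exact dvd_mul_of_dvd_left (by norm_num) _)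
  have hw2 : (w : ↥(Cfsg.Sz F m)) * w = 1 := by
    have := pow_orderOf_eq_one w
    rw [hw, sq] at this
    exact congrArg Subtype.val this
  have hodd : ¬ 2 ∣ Nat.card (cz g) := fun h => by
    rcases card_cz_cases c hg with e | e <;> omega
  have hwA : (w : ↥(Cfsg.Sz F m)) ∉ cz g := fun h => hodd (by
    have := orderOf_dvd_natCard (⟨(w : ↥(Cfsg.Sz F m)), h⟩ : cz g)
    rwa [Subgroup.orderOf_mk, Subgroup.orderOf_coe, hw] at this)
  set t := (w : ↥(Cfsg.Sz F m)) * g * (w : ↥(Cfsg.Sz F m))⁻¹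
  have ht : t ∈ cz g := (Subgroup.mem_normalizer_iff.1 w.2 g).1 (mem_cz_self g)
  have hwi : (w : ↥(Cfsg.Sz F m))⁻¹ = w := inv_eq_of_mul_eq_one_right hw2
  have hu : g * t = 1 := by
    by_contra hne
    refine hwA ((hA.cent _ (mul_mem (mem_cz_self g) ht) hne).le (Subgroup.mem_centralizer_singleton_iff.2 ?_))
    have e1 : t * g = g * t := hA.comm ht (mem_cz_self g)
    calc (w : ↥(Cfsg.Sz F m)) * (g * t) = t * ((w : ↥(Cfsg.Sz F m)) * w) * g * (w : ↥(Cfsg.Sz F m))⁻¹ := by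
          simp only [t]; group
      _ = t * g * w := by rw [hw2, mul_one, hwi]
      _ = g * t * w := by rw [e1]
  exact isConj_iff.2 ⟨w, eq_inv_of_mul_eq_one_right hu⟩

theorem char_free_real {g : ↥(Cfsg.Sz F m)} (hg : IsFree g) (χ : IrrCharacter ↥(Cfsg.Sz F m)) :
    conj (χ.1 g) = χ.1 g := by
  obtain ⟨k, hk⟩ := isConj_iff.1 (free_real c hg)
  rw [← Char.char_inv (Char.isCharacter_of_isIrr χ.2), ← hk, Char.isClassFunction_of_isIrr χ.2]

end Cfsg.Agent.Lib.SuzChar
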