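import Cfsg.Agent.Lib.SuzChar.Table
import Cfsg.Agent.Lib.CharTools.ClassMult
import Mathlib.RingTheory.RootsOfUnity.Complex

/-! Squares of conjugacy classes of the Suzuki group. -/

set_option autoImplicit false
set_option linter.style.haveILetI false
set_option linter.unusedSectionVars false

namespace Cfsg.Agent.Lib.SuzChar

open Cfsg Cfsg.Agent.Lib.Suz Cfsg.Agent.Lib
open scoped ComplexConjugate
open Complex (I)

universe u

section general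

variable {G : Type u} [Group G]

/-- `g` is a product of two conjugates of `x` -/
def Cov (x g : G) : Prop := ∃ u v : G, g = (u * x * u⁻¹) * (v * x * v⁻¹)

theorem Cov.of_conj {x x' g g' : G} (hx : IsConj x x') (hg : IsConj g g') (h : Cov x' g') : Cov x g := by
  obtain ⟨a, rfl⟩ := isConj_iff.1 hx
  obtain ⟨b, rfl⟩ := isConj_iff.1 hg
  obtain ⟨u, v, e⟩ := h
  refine ⟨b⁻¹ * u * a, b⁻¹ * v * a, ?_⟩
  rw [show g = b⁻¹ * (b * g * b⁻¹) * b by group, e]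
  group

theorem Cov.inv {x g : G} (h : Cov x g) : Cov x⁻¹ g⁻¹ := by
  obtain ⟨u, v, rfl⟩ := h
  exact ⟨v, u, by group⟩

/-- the term of an irreducible character in the structure constant -/
noncomputable def term (x g : G) (φ : G → ℂ) : ℂ := φ x ^ 2 * conj (φ g) / φ 1

theorem cov_of_sum [Fintype G] {x g : G}
    (h : ∑ χ : IrrCharacter G, term x g χ.1 ≠ 0) : Cov x g := by
  classical
  by_contra hc
  apply h
  have key : ∑ χ : IrrCharacter G, conj (χ.1 g) *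
      ∑ a : G, ∑ b : G, CharTools.classInd x a * CharTools.classInd x b * χ.1 (a * b) = 0 := by
    simp only [Finset.mul_sum]
    rw [Finset.sum_comm]
    refine Finset.sum_eq_zero fun a _ => ?_
    rw [Finset.sum_comm]
    refine Finset.sum_eq_zero fun b _ => ?_
    by_cases ha : IsConj a x
    swap
    · simp [CharTools.classInd_of_not ha]
    by_cases hb : IsConj b x
    swap
    · simp [CharTools.classInd_of_not hb]
    have hn : ¬ IsConj (a * b) g := fun hab => by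
      obtain ⟨u, hu⟩ := isConj_iff.1 ha.symm
      obtain ⟨v, hv⟩ := isConj_iff.1 hb.symm
      exact hc (Cov.of_conj (IsConj.refl x) hab.symm ⟨u, v, by rw [hu, hv]⟩)
    have h0 := Char.sum_irr_mul_conj (a * b) g
    rw [if_neg hn] at h0
    rw [← h0]
    simp only [CharTools.classInd_of ha, CharTools.classInd_of hb, one_mul]
    exact Finset.sum_congr rfl fun χ _ => mul_comm _ _
  have hi : ((Subgroup.centralizer ({x} : Set G)).index : ℂ) ≠ 0 :=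
    Nat.cast_ne_zero.2 Subgroup.index_ne_zero_of_finite
  rw [Finset.sum_congr rfl fun χ _ => show conj (χ.1 g) *
      ∑ a : G, ∑ b : G, CharTools.classInd x a * CharTools.classInd x b * χ.1 (a * b) =
      ((Subgroup.centralizer ({x} : Set G)).index : ℂ) * ((Subgroup.centralizer ({x} : Set G)).index : ℂ) *
        term x g χ.1 by rw [CharTools.sum_classes_mul χ.2, term]; ring, ← Finset.mul_sum] at key
  exact (mul_eq_zero.1 key).resolve_left (mul_ne_zero hi hi)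

theorem re_term {x g : G} {φ : G → ℂ} {r d : ℝ} (hx : φ x ^ 2 = r) (h1 : φ 1 = d) :
    (term x g φ).re = r * (φ g).re / d := by
  rw [term, hx, h1, Complex.div_ofReal_re, Complex.re_ofReal_mul, Complex.conj_re]

theorem re_sum_ge {ι : Type u} {s : Finset ι} {f : ι → ℂ} {b : ℝ} (h : ∀ i ∈ s, b ≤ (f i).re) :
    (s.card : ℝ) * b ≤ (∑ i ∈ s, f i).re := by
  rw [Complex.re_sum, ← nsmul_eq_mul]
  exact Finset.card_nsmul_le_sum _ _ _ h

end general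

variable {F : Type u} [Field F] [Fintype F] [CharP F 2] {m : ℕ} (c : Ctx F m)
variable [DecidableEq F] [Fintype ↥(Cfsg.Sz F m)]

include c

theorem elem_cases {g : ↥(Cfsg.Sz F m)} (hg : g ≠ 1) :
    (∃ h : Fˣ, h ≠ 1 ∧ IsConj g (tHom c h)) ∨ IsConj g (uG c 0 1) ∨ IsConj g (uG c 1 0) ∨
      IsConj g (uG c 1 0)⁻¹ ∨ IsFree g := by
  by_cases hf : IsFree g
  · exact Or.inr (Or.inr (Or.inr (Or.inr hf)))
  rcases not_free_cases c hf with ⟨k, u, hu, rfl⟩ | ⟨k, h, rfl⟩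
  · have hc : IsConj (k * u * k⁻¹) u := (isConj_iff.2 ⟨k, rfl⟩).symm
    have h1 : u ≠ 1 := fun e => hg (by rw [e]; group)
    rcases uG_conj_cases c hu h1 with e | e | e
    · exact Or.inr (Or.inl (hc.trans e))
    · exact Or.inr (Or.inr (Or.inl (hc.trans e)))
    · exact Or.inr (Or.inr (Or.inr (Or.inl (hc.trans e))))
  · exact Or.inl ⟨h, fun e => hg (by rw [e, map_one]; group), (isConj_iff.2 ⟨k, rfl⟩).symm⟩

theorem norm_hom (α : Fˣ →* ℂˣ) (h : Fˣ) : ‖(α h : ℂ)‖ = 1 := by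
  refine Complex.norm_eq_one_of_pow_eq_one (n := Fintype.card Fˣ) ?_ Fintype.card_ne_zero
  rw [← Units.val_pow_eq_pow_val, ← map_pow, pow_card_eq_one, map_one, Units.val_one]

theorem norm_prin_le (α : Fˣ →* ℂˣ) {g : ↥(Cfsg.Sz F m)} (hg : g ≠ 1) : ‖prin c α g‖ ≤ 2 := by
  have hcl : ∀ {a b : ↥(Cfsg.Sz F m)}, IsConj a b → prin c α a = prin c α b := fun {a b} e => by
    obtain ⟨k, rfl⟩ := isConj_iff.1 e
    exact (prin_conj c α a k).symm
  rcases elem_cases c hg with ⟨h, h1, e⟩ | e | e | e | e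
  · rw [hcl e, prin_tHom c α h1]
    exact le_trans (norm_add_le _ _) (by simp [norm_hom c]; norm_num)
  · rw [hcl e, prin_uG c α (uG_mem_uSub c 0 1) (z0_ne c)]; norm_num
  · rw [hcl e, prin_uG c α (uG_mem_uSub c 1 0) (uG10_ne c)]; norm_num
  · rw [hcl e, prin_uG c α (inv_mem (uG_mem_uSub c 1 0)) (inv_ne_one.2 (uG10_ne c))]; norm_num
  · rw [prin_free c α e]; norm_num

theorem norm_stn_le {g : ↥(Cfsg.Sz F m)} (hg : g ≠ 1) : ‖stn c g‖ ≤ 1 := by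
  have hcl : ∀ {a b : ↥(Cfsg.Sz F m)}, IsConj a b → stn c a = stn c b := fun {a b} e => by
    obtain ⟨k, rfl⟩ := isConj_iff.1 e
    exact (Char.isClassFunction_of_isIrr (stn_irr c) a k).symm
  rcases elem_cases c hg with ⟨h, h1, e⟩ | e | e | e | e
  · rw [hcl e, stn_tHom c h1]; norm_num
  · rw [hcl e, stn_uG c (uG_mem_uSub c 0 1) (z0_ne c)]; norm_num
  · rw [hcl e, stn_uG c (uG_mem_uSub c 1 0) (uG10_ne c)]; norm_num
  · rw [hcl e, stn_uG c (inv_mem (uG_mem_uSub c 1 0)) (inv_ne_one.2 (uG10_ne c))]; norm_num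
  · rw [stn_free c e]; norm_num

/-- a lower bound for the structure constant gives the covering -/
theorem cov_of_bounds {F1 F2 W : Finset (IrrCharacter ↥(Cfsg.Sz F m))} (T : Table c F1 F2 W)
    {x g : ↥(Cfsg.Sz F m)} {bS bP b1 b2 bW : ℝ} (hS : bS ≤ (term x g (stn c)).re)
    (hP : ∀ α : Fˣ →* ℂˣ, α ≠ 1 → bP ≤ (term x g (prin c α)).re)
    (h1 : b1 ≤ (∑ χ ∈ F1, term x g χ.1).re) (h2 : b2 ≤ (∑ χ ∈ F2, term x g χ.1).re)
    (hW : bW ≤ (∑ χ ∈ W, term x g χ.1).re)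
    (hpos : 0 < 1 + bS + ((Fintype.card F : ℝ) - 2) * bP / 2 + b1 + b2 + bW) : Cov x g := by
  classical
  haveI : Fintype (Fˣ →* ℂˣ) := Fintype.ofFinite _
  refine cov_of_sum fun h => ?_
  rw [sum_irr_eq c fun φ => term x g φ, T.cover] at h
  have hh := congrArg Complex.re h
  rw [← Finset.add_sum_erase _ _ (Finset.mem_univ (1 : Fˣ →* ℂˣ)), add_sub_cancel_left] at hh
  have hcard : ((Finset.univ.erase (1 : Fˣ →* ℂˣ)).card : ℝ) = (Fintype.card F : ℝ) - 2 := by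
    have h8 := c.eight_le
    have e : (Finset.univ.erase (1 : Fˣ →* ℂˣ)).card + 2 = Fintype.card F := by
      rw [Finset.card_erase_of_mem (Finset.mem_univ _), Finset.card_univ, ← Nat.card_eq_fintype_card,
        card_homs, Fintype.card_units]
      omega
    rw [← e]; push_cast; ring
  have hb := re_sum_ge (f := fun α => term x g (prin c α)) (s := Finset.univ.erase (1 : Fˣ →* ℂˣ))
    fun α hα => hP α (Finset.ne_of_mem_erase hα)
  rw [hcard] at hb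
  simp only [Complex.add_re, Complex.zero_re, Complex.div_ofNat_re] at hh
  have e1 : (term x g fun _ => (1 : ℂ)).re = 1 := by simp [term]
  linarith

/-- real casts of the parameters -/
theorem real_facts {F1 F2 W : Finset (IrrCharacter ↥(Cfsg.Sz F m))} (T : Table c F1 F2 W) :
    (2 : ℝ) ≤ 2 ^ m ∧ (Fintype.card F : ℝ) = 2 * (2 ^ m) ^ 2 ∧
      2 * (F1.card : ℝ) = 2 ^ m * (2 ^ m + 1) ∧ 2 * (F2.card : ℝ) = 2 ^ m * (2 ^ m - 1) ∧
      (∀ χ ∈ F1, χ.1 1 = (((2 * (2 ^ m) ^ 2 - 1) * (2 * (2 ^ m) ^ 2 - 2 * 2 ^ m + 1) : ℝ) : ℂ)) ∧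
      (∀ χ ∈ F2, χ.1 1 = (((2 * (2 ^ m) ^ 2 - 1) * (2 * (2 ^ m) ^ 2 + 2 * 2 ^ m + 1) : ℝ) : ℂ)) ∧
      (∀ χ ∈ W, χ.1 1 = (((2 * (2 ^ m) ^ 2 - 1) * 2 ^ m : ℝ) : ℂ)) := by
  refine ⟨le_self_pow₀ (by norm_num) (by have := c.hm; omega), ?_, ?_, ?_, ?_, ?_, ?_⟩
  · rw [card_eq_two_sq c]; push_cast; rfl
  · exact_mod_cast T.card1
  · exact_mod_cast T.card2
  · intro χ h; rw [T.one1 χ h]; push_cast; rfl
  · intro χ h; rw [T.one2 χ h]; push_cast; rfl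
  · intro χ h; rw [T.oneW χ h]; push_cast; rfl

theorem cover_torus {h : Fˣ} (h1 : h ≠ 1) {g : ↥(Cfsg.Sz F m)} (hg : g ≠ 1) : Cov (tHom c h) g := by
  obtain ⟨F1, F2, W, T⟩ := exists_table c
  have hz : ∀ χ ∈ cusp c, term (tHom c h) g χ.1 = 0 := fun χ hχ => by simp [term, cusp_tHom c hχ h1]
  have h8 : (8 : ℝ) ≤ Fintype.card F := by exact_mod_cast c.eight_le
  set q : ℝ := (Fintype.card F : ℝ) with hq
  refine cov_of_bounds c T (bS := -(1 / q ^ 2)) (bP := -(8 / (q ^ 2 + 1))) (b1 := 0) (b2 := 0) (bW := 0)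
    ?_ (fun α _ => ?_) ?_ ?_ ?_ ?_
  · refine le_trans (neg_le_neg ?_) (neg_le_of_abs_le (Complex.abs_re_le_norm _))
    rw [term, stn_tHom c h1, stn_one, norm_div, norm_mul, norm_pow, norm_pow, Complex.norm_conj,
      Complex.norm_natCast, norm_one, one_pow, one_mul]
    gcongr
    exact norm_stn_le c hg
  · refine le_trans (neg_le_neg ?_) (neg_le_of_abs_le (Complex.abs_re_le_norm _))
    rw [term, prin_one, prin_tHom c α h1, norm_div, norm_mul, norm_pow, Complex.norm_conj,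
      show (Fintype.card F : ℂ) ^ 2 + 1 = ((q ^ 2 + 1 : ℝ) : ℂ) by rw [hq]; push_cast; rfl,
      Complex.norm_of_nonneg (by positivity)]
    gcongr
    refine le_trans (mul_le_mul (pow_le_pow_left₀ (norm_nonneg _) (le_trans (norm_add_le _ _)
      (by simp [norm_hom c] : _ ≤ (1 : ℝ) + 1)) 2) (norm_prin_le c α hg) (norm_nonneg _) (by positivity)) ?_
    norm_num
  · rw [Finset.sum_eq_zero fun χ hχ => hz χ ((T.mem χ).2 (Or.inl hχ))]; simp
  · rw [Finset.sum_eq_zero fun χ hχ => hz χ ((T.mem χ).2 (Or.inr (Or.inl hχ)))]; simp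
  · rw [Finset.sum_eq_zero fun χ hχ => hz χ ((T.mem χ).2 (Or.inr (Or.inr hχ)))]; simp
  · have e1 : 1 / q ^ 2 ≤ 1 / 64 := by gcongr; nlinarith
    have e2 : (q - 2) * (8 / (q ^ 2 + 1)) / 2 ≤ 1 / 2 := by
      rw [mul_div_assoc', div_div, div_le_div_iff₀ (by positivity) (by norm_num)]
      nlinarith
    linarith

theorem inv_re (χ : IrrCharacter ↥(Cfsg.Sz F m)) (g : ↥(Cfsg.Sz F m)) : (χ.1 g⁻¹).re = (χ.1 g).re := by
  rw [Char.char_inv (Char.isCharacter_of_isIrr χ.2), Complex.conj_re]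

theorem W_f_re {F1 F2 W : Finset (IrrCharacter ↥(Cfsg.Sz F m))} (T : Table c F1 F2 W)
    {g : ↥(Cfsg.Sz F m)} (hg : g = uG c 1 0 ∨ g = (uG c 1 0)⁻¹) : ∀ χ ∈ W, (χ.1 g).re = 0 := by
  intro χ hχ
  obtain ⟨k, -, hk⟩ := T.fW χ hχ
  rcases hg with rfl | rfl
  · rw [hk, Complex.mul_re, Complex.I_re, Complex.I_im, Complex.intCast_im]; ring
  · rw [inv_re c, hk, Complex.mul_re, Complex.I_re, Complex.I_im, Complex.intCast_im]; ring

theorem F_f_re {F1 F2 W : Finset (IrrCharacter ↥(Cfsg.Sz F m))} (T : Table c F1 F2 W)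
    {g : ↥(Cfsg.Sz F m)} (hg : g = uG c 1 0 ∨ g = (uG c 1 0)⁻¹) {χ : IrrCharacter ↥(Cfsg.Sz F m)}
    (hχ : χ ∈ F1 ∨ χ ∈ F2) : (χ.1 g).re = -1 := by
  rcases hg with rfl | rfl
  · rw [T.f12 χ hχ]; simp
  · rw [inv_re c, T.f12 χ hχ]; simp

theorem cover_f {g : ↥(Cfsg.Sz F m)} (hg : g ≠ 1) : Cov (uG c 1 0) g := by
  obtain ⟨F1, F2, W, T⟩ := exists_table c
  obtain ⟨hP2, hq, hc1, hc2, one1, one2, oneW⟩ := real_facts c T
  set P : ℝ := 2 ^ m with hPdef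
  have hu := uG_mem_uSub c (1 : F) 0
  have hS : ∀ g', 0 ≤ (term (uG c 1 0) g' (stn c)).re := fun g' => by
    simp [term, stn_uG c hu (uG10_ne c)]
  have tP : ∀ g' α, (term (uG c 1 0) g' (prin c α)).re = 1 * (prin c α g').re / (((Fintype.card F : ℝ) ^ 2 + 1)) :=
    fun g' α => re_term (by rw [prin_uG c α hu (uG10_ne c)]; simp) (by rw [prin_one]; simp)
  have t1 : ∀ g', ∀ χ ∈ F1, (term (uG c 1 0) g' χ.1).re = 1 * (χ.1 g').re / _ := fun g' χ hχ =>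
    re_term (by rw [T.f12 χ (Or.inl hχ)]; simp) (one1 χ hχ)
  have t2 : ∀ g', ∀ χ ∈ F2, (term (uG c 1 0) g' χ.1).re = 1 * (χ.1 g').re / _ := fun g' χ hχ =>
    re_term (by rw [T.f12 χ (Or.inr hχ)]; simp) (one2 χ hχ)
  have tW : ∀ g', ∀ χ ∈ W, (term (uG c 1 0) g' χ.1).re = (-P ^ 2) * (χ.1 g').re / _ := fun g' χ hχ =>
    re_term (by
      obtain ⟨k, hk2, hk⟩ := T.fW χ hχ
      rw [hk, mul_pow, Complex.I_sq]
      have : ((k : ℂ)) ^ 2 = 1 := by exact_mod_cast hk2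
      push_cast [hPdef]
      linear_combination -((2 : ℂ) ^ m) ^ 2 * this) (oneW χ hχ)
  have hd1 : 0 < (2 * P ^ 2 - 1) * (2 * P ^ 2 - 2 * P + 1) := mul_pos (by nlinarith) (by nlinarith)
  have hd2 : 0 < (2 * P ^ 2 - 1) * (2 * P ^ 2 + 2 * P + 1) := mul_pos (by nlinarith) (by nlinarith)
  have hdW : 0 < (2 * P ^ 2 - 1) * P := mul_pos (by nlinarith) (by linarith)
  have hdd : 2 * (F1.card : ℝ) < (2 * P ^ 2 - 1) * (2 * P ^ 2 - 2 * P + 1) ∧
      2 * (F2.card : ℝ) < (2 * P ^ 2 - 1) * (2 * P ^ 2 + 2 * P + 1) := ⟨by nlinarith, by nlinarith⟩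
  rcases elem_cases c hg with ⟨h, h1, e⟩ | e | e | e | hfree
  · refine Cov.of_conj (IsConj.refl _) e (cov_of_bounds c T (bS := 0) (bP := -(2 / ((Fintype.card F : ℝ) ^ 2 + 1)))
      (b1 := 0) (b2 := 0) (bW := 0) (hS _) (fun α _ => ?_) ?_ ?_ ?_ ?_)
    · rw [tP, one_mul, neg_div']
      gcongr
      refine le_trans (neg_le_neg ?_) (neg_le_of_abs_le (Complex.abs_re_le_norm _))
      exact norm_prin_le c α (fun e => h1 (tHom_injective c (e.trans (map_one _).symm)))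
    iterate 3
      rw [Finset.sum_eq_zero fun χ hχ => by
        simp [term, cusp_tHom c ((T.mem χ).2 (by tauto) : χ ∈ cusp c) h1]]
      simp
    · have : ((Fintype.card F : ℝ) - 2) * (2 / ((Fintype.card F : ℝ) ^ 2 + 1)) / 2 < 1 := by
        rw [mul_div_assoc', div_div, div_lt_one (by positivity)]
        nlinarith
      linarith
  · refine Cov.of_conj (IsConj.refl _) e (cov_of_bounds c T (bS := 0) (bP := 0)
      (b1 := 0) (b2 := (F2.card : ℝ) * (-(2 * P + 1) / ((2 * P ^ 2 - 1) * (2 * P ^ 2 + 2 * P + 1)))) (bW := 0)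
      (hS _) (fun α _ => ?_) ?_ (re_sum_ge fun χ hχ => ?_) ?_ ?_)
    · rw [tP, prin_uG c α (uG_mem_uSub c 0 1) (z0_ne c)]; simp; positivity
    · rw [Complex.re_sum]
      refine Finset.sum_nonneg fun χ hχ => ?_
      rw [t1 _ χ hχ, T.z1 χ hχ, Complex.intCast_re]
      exact div_nonneg (by push_cast; linarith) hd1.le
    · rw [t2 _ χ hχ, T.z2 χ hχ, Complex.intCast_re]
      push_cast [hPdef]; rw [one_mul]
    · rw [Complex.re_sum]
      refine Finset.sum_nonneg fun χ hχ => ?_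
      rw [tW _ χ hχ, T.zW χ hχ, Complex.intCast_re]
      exact div_nonneg (by push_cast; nlinarith) hdW.le
    · rw [mul_div_assoc']
      have : -1 < (F2.card : ℝ) * -(2 * P + 1) / ((2 * P ^ 2 - 1) * (2 * P ^ 2 + 2 * P + 1)) := by
        rw [lt_div_iff₀ hd2]; nlinarith
      linarith
  · exact Cov.of_conj (IsConj.refl _) e (aux T (Or.inl rfl) hS tP t1 t2 tW hd1 hd2 hdd)
  · exact Cov.of_conj (IsConj.refl _) e (aux T (Or.inr rfl) hS tP t1 t2 tW hd1 hd2 hdd)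
  · have hPz : ∀ α : Fˣ →* ℂˣ, α ≠ 1 → (0 : ℝ) ≤ (term (uG c 1 0) g (prin c α)).re := fun α _ => by
      rw [tP, prin_free c α hfree]; simp
    rcases card_cz_cases c hfree with hN | hN
    · obtain ⟨g2, gW, gb, -⟩ := T.free1 g hfree hN
      refine cov_of_bounds c T (bS := 0) (bP := 0)
        (b1 := (F1.card : ℝ) * (-4 / ((2 * P ^ 2 - 1) * (2 * P ^ 2 - 2 * P + 1)))) (b2 := 0)
        (bW := (W.card : ℝ) * (-P ^ 2 / ((2 * P ^ 2 - 1) * P)))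
        (hS _) hPz (re_sum_ge fun χ hχ => ?_) ?_ (re_sum_ge fun χ hχ => ?_) ?_
      · rw [t1 _ χ hχ, one_mul]
        gcongr
        exact le_trans (neg_le_neg (gb χ hχ)) (neg_le_of_abs_le (Complex.abs_re_le_norm _))
      · rw [Complex.re_sum]
        refine Finset.sum_nonneg fun χ hχ => ?_
        rw [t2 _ χ hχ, g2 χ hχ]; simp
      · rw [tW _ χ hχ, gW χ hχ]; simp
      · rw [T.cardW, Nat.cast_ofNat, mul_div_assoc', mul_div_assoc']
        have e1 : -(2 / 5) ≤ (F1.card : ℝ) * -4 / ((2 * P ^ 2 - 1) * (2 * P ^ 2 - 2 * P + 1)) := by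
          rw [le_div_iff₀ hd1]
          nlinarith [mul_nonneg (mul_nonneg (sub_nonneg.2 hP2) (sub_nonneg.2 hP2)) (sub_nonneg.2 hP2)]
        have e2 : -(4 / 7) ≤ 2 * -P ^ 2 / ((2 * P ^ 2 - 1) * P) := by
          rw [le_div_iff₀ hdW]; nlinarith
        linarith
    · obtain ⟨g1, gb, -, gW⟩ := T.free2 g hfree hN
      refine cov_of_bounds c T (bS := 0) (bP := 0) (b1 := 0)
        (b2 := (F2.card : ℝ) * (-4 / ((2 * P ^ 2 - 1) * (2 * P ^ 2 + 2 * P + 1)))) (bW := 0)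
        (hS _) hPz ?_ (re_sum_ge fun χ hχ => ?_) ?_ ?_
      · rw [Complex.re_sum]
        refine Finset.sum_nonneg fun χ hχ => ?_
        rw [t1 _ χ hχ, g1 χ hχ]; simp
      · rw [t2 _ χ hχ, one_mul]
        gcongr
        exact le_trans (neg_le_neg (gb χ hχ)) (neg_le_of_abs_le (Complex.abs_re_le_norm _))
      · rw [Complex.re_sum]
        refine Finset.sum_nonneg fun χ hχ => ?_
        rw [tW _ χ hχ, gW χ hχ]
        exact div_nonneg (by simp; positivity) hdW.le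
      · rw [mul_div_assoc']
        have : -1 < (F2.card : ℝ) * -4 / ((2 * P ^ 2 - 1) * (2 * P ^ 2 + 2 * P + 1)) := by
          rw [lt_div_iff₀ hd2]; nlinarith
        linarith
where
  aux {F1 F2 W : Finset (IrrCharacter ↥(Cfsg.Sz F m))} (T : Table c F1 F2 W) {g : ↥(Cfsg.Sz F m)}
    (hgf : g = uG c 1 0 ∨ g = (uG c 1 0)⁻¹) {P d1 d2 dW : ℝ}
    (hS : ∀ g', 0 ≤ (term (uG c 1 0) g' (stn c)).re)
    (tP : ∀ g' α, (term (uG c 1 0) g' (prin c α)).re = 1 * (prin c α g').re / (((Fintype.card F : ℝ) ^ 2 + 1)))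
    (t1 : ∀ g', ∀ χ ∈ F1, (term (uG c 1 0) g' χ.1).re = 1 * (χ.1 g').re / d1)
    (t2 : ∀ g', ∀ χ ∈ F2, (term (uG c 1 0) g' χ.1).re = 1 * (χ.1 g').re / d2)
    (tW : ∀ g', ∀ χ ∈ W, (term (uG c 1 0) g' χ.1).re = (-P ^ 2) * (χ.1 g').re / dW)
    (hd1 : 0 < d1) (hd2 : 0 < d2) (hd : 2 * (F1.card : ℝ) < d1 ∧ 2 * (F2.card : ℝ) < d2) :
    Cov (uG c 1 0) g := by
    refine cov_of_bounds c T (bS := 0) (bP := 0) (b1 := (F1.card : ℝ) * (-1 / d1))
      (b2 := (F2.card : ℝ) * (-1 / d2)) (bW := 0) (hS _) (fun α _ => ?_) (re_sum_ge fun χ hχ => ?_)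
      (re_sum_ge fun χ hχ => ?_) ?_ ?_
    · rw [tP]
      rcases hgf with rfl | rfl
      · rw [prin_uG c α (uG_mem_uSub c 1 0) (uG10_ne c)]; simp; positivity
      · rw [prin_uG c α (inv_mem (uG_mem_uSub c 1 0)) (inv_ne_one.2 (uG10_ne c))]; simp; positivity
    · rw [t1 _ χ hχ, F_f_re c T hgf (Or.inl hχ), one_mul]
    · rw [t2 _ χ hχ, F_f_re c T hgf (Or.inr hχ), one_mul]
    · rw [Complex.re_sum]
      refine Finset.sum_nonneg fun χ hχ => ?_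
      rw [tW _ χ hχ, W_f_re c T hgf χ hχ]; simp
    · rw [mul_div_assoc', mul_div_assoc']
      have e1 : -(1 / 2) < (F1.card : ℝ) * -1 / d1 := by rw [lt_div_iff₀ hd1]; linarith [hd.1]
      have e2 : -(1 / 2) < (F2.card : ℝ) * -1 / d2 := by rw [lt_div_iff₀ hd2]; linarith [hd.2]
      linarith

theorem cover_free {x : ↥(Cfsg.Sz F m)} (hx : IsFree x) {g : ↥(Cfsg.Sz F m)} (hg : g ≠ 1) : Cov x g := by
  obtain ⟨F1, F2, W, T⟩ := exists_table c
  obtain ⟨hP2, hq, hc1, hc2, one1, one2, oneW⟩ := real_facts c T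
  set P : ℝ := 2 ^ m with hPdef
  have hd1 : 0 < (2 * P ^ 2 - 1) * (2 * P ^ 2 - 2 * P + 1) := mul_pos (by nlinarith) (by nlinarith)
  have hd2 : 0 < (2 * P ^ 2 - 1) * (2 * P ^ 2 + 2 * P + 1) := mul_pos (by nlinarith) (by nlinarith)
  have hdW : 0 < (2 * P ^ 2 - 1) * P := mul_pos (by nlinarith) (by linarith)
  have hP : ∀ g' (α : Fˣ →* ℂˣ), α ≠ 1 → (0 : ℝ) ≤ (term x g' (prin c α)).re := fun g' α _ => by
    simp [term, prin_free c α hx]
  have tS : ∀ g', (term x g' (stn c)).re = 1 * (stn c g').re / (Fintype.card F : ℝ) ^ 2 := fun g' =>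
    re_term (by rw [stn_free c hx]; simp) (by rw [stn_one]; simp)
  have hsq : ∀ χ : IrrCharacter ↥(Cfsg.Sz F m), χ.1 x ^ 2 = ((‖χ.1 x‖ ^ 2 : ℝ) : ℂ) := fun χ => by
    rw [Complex.ofReal_pow, ← Complex.mul_conj', char_free_real c hx, sq]
  have t1 : ∀ g', ∀ χ ∈ F1, (term x g' χ.1).re = ‖χ.1 x‖ ^ 2 * (χ.1 g').re / _ := fun g' χ hχ =>
    re_term (hsq χ) (one1 χ hχ)
  have t2 : ∀ g', ∀ χ ∈ F2, (term x g' χ.1).re = ‖χ.1 x‖ ^ 2 * (χ.1 g').re / _ := fun g' χ hχ =>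
    re_term (hsq χ) (one2 χ hχ)
  have tW : ∀ g', ∀ χ ∈ W, (term x g' χ.1).re = ‖χ.1 x‖ ^ 2 * (χ.1 g').re / _ := fun g' χ hχ =>
    re_term (hsq χ) (oneW χ hχ)
  have hsum : ∀ (S : Finset (IrrCharacter ↥(Cfsg.Sz F m))) (g' : ↥(Cfsg.Sz F m)) (d b : ℝ), 0 < d →
      (∀ χ ∈ S, (term x g' χ.1).re = ‖χ.1 x‖ ^ 2 * (χ.1 g').re / d) → (∀ χ ∈ S, b ≤ (χ.1 g').re) →
      (∑ χ ∈ S, ‖χ.1 x‖ ^ 2) * b / d ≤ (∑ χ ∈ S, term x g' χ.1).re := fun S g' d b hd ht hb => by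
    rw [Complex.re_sum, Finset.sum_mul, Finset.sum_div]
    refine Finset.sum_le_sum fun χ hχ => ?_
    rw [ht χ hχ]
    gcongr
    exact hb χ hχ
  -- the sums over the two types of `x`
  obtain ⟨s1, s2, sW, hs⟩ : ∃ s1 s2 sW : ℝ, (∑ χ ∈ F1, ‖χ.1 x‖ ^ 2 = s1 ∧ ∑ χ ∈ F2, ‖χ.1 x‖ ^ 2 = s2 ∧
      ∑ χ ∈ W, ‖χ.1 x‖ ^ 2 = sW) ∧ sW = 2 ∧
      ((s1 = 2 * P ^ 2 + 2 * P - 3 ∧ s2 = 0) ∨ (s1 = 0 ∧ s2 = 2 * P ^ 2 - 2 * P - 3)) := by
    rcases card_cz_cases c hx with hN | hN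
    · obtain ⟨x2, xW, -, x1⟩ := T.free1 x hx hN
      exact ⟨_, _, _, ⟨x1, Finset.sum_eq_zero fun χ hχ => by rw [x2 χ hχ]; simp,
        (Finset.sum_congr rfl fun χ hχ => show ‖χ.1 x‖ ^ 2 = 1 by rw [xW χ hχ]; simp).trans
          (by rw [Finset.sum_const, T.cardW])⟩, by norm_num, Or.inl ⟨rfl, rfl⟩⟩
    · obtain ⟨x1, -, x2, xW⟩ := T.free2 x hx hN
      exact ⟨_, _, _, ⟨Finset.sum_eq_zero fun χ hχ => by rw [x1 χ hχ]; simp, x2,
        (Finset.sum_congr rfl fun χ hχ => show ‖χ.1 x‖ ^ 2 = 1 by rw [xW χ hχ]; simp).trans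
          (by rw [Finset.sum_const, T.cardW])⟩, by norm_num, Or.inr ⟨rfl, rfl⟩⟩
  obtain ⟨⟨e1, e2, e3⟩, rfl, hcase⟩ := hs
  have h64 : 1 / (Fintype.card F : ℝ) ^ 2 ≤ 1 / 64 := by
    gcongr
    rw [hq]; nlinarith
  have main : ∀ g' (bS b1 b2 bW : ℝ), bS ≤ (stn c g').re → (∀ χ ∈ F1, b1 ≤ (χ.1 g').re) →
      (∀ χ ∈ F2, b2 ≤ (χ.1 g').re) → (∀ χ ∈ W, bW ≤ (χ.1 g').re) →
      0 < 1 + bS / (Fintype.card F : ℝ) ^ 2 + s1 * b1 / ((2 * P ^ 2 - 1) * (2 * P ^ 2 - 2 * P + 1)) +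
        s2 * b2 / ((2 * P ^ 2 - 1) * (2 * P ^ 2 + 2 * P + 1)) + 2 * bW / ((2 * P ^ 2 - 1) * P) →
      Cov x g' := by
    intro g' bS b1 b2 bW hS h1 h2 hW hpos
    refine cov_of_bounds c T ?_ (hP g') (e1 ▸ hsum F1 g' _ b1 hd1 (t1 g') h1)
      (e2 ▸ hsum F2 g' _ b2 hd2 (t2 g') h2) (e3 ▸ hsum W g' _ bW hdW (tW g') hW)
      (by rw [mul_zero, zero_div, add_zero]; exact hpos)
    rw [tS, one_mul]
    gcongr
  have eW : 2 * (-P) / ((2 * P ^ 2 - 1) * P) ≥ -(2 / 7) := by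
    rw [ge_iff_le, le_div_iff₀ hdW]; nlinarith
  have eW1 : 2 * (-1) / ((2 * P ^ 2 - 1) * P) ≥ -(1 / 7) := by
    rw [ge_iff_le, le_div_iff₀ hdW]; nlinarith
  rcases elem_cases c hg with ⟨h, h1, e⟩ | e | e | e | hfree
  · refine Cov.of_conj (IsConj.refl _) e (main _ 0 0 0 0 ?_ ?_ ?_ ?_ (by simp))
    · rw [stn_tHom c h1]; simp
    all_goals intro χ hχ; rw [cusp_tHom c ((T.mem χ).2 (by tauto) : χ ∈ cusp c) h1]; simp
  · refine Cov.of_conj (IsConj.refl _) e (main _ 0 0 (-(2 * P + 1)) (-P) ?_ ?_ ?_ ?_ ?_)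
    · rw [stn_uG c (uG_mem_uSub c 0 1) (z0_ne c)]; simp
    · intro χ hχ; rw [T.z1 χ hχ, Complex.intCast_re]; push_cast; linarith
    · intro χ hχ; rw [T.z2 χ hχ, Complex.intCast_re]; push_cast [hPdef]; exact le_rfl
    · intro χ hχ; rw [T.zW χ hχ, Complex.intCast_re]; push_cast [hPdef]; exact le_rfl
    · have : -(1 / 2) < s2 * -(2 * P + 1) / ((2 * P ^ 2 - 1) * (2 * P ^ 2 + 2 * P + 1)) := by
        rw [lt_div_iff₀ hd2]
        rcases hcase with ⟨-, rfl⟩ | ⟨-, rfl⟩ <;> nlinarith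
      simp only [mul_zero, zero_div]
      linarith
  · exact Cov.of_conj (IsConj.refl _) e (main _ 0 (-1) (-1) 0 (by rw [stn_uG c (uG_mem_uSub c 1 0) (uG10_ne c)]; simp)
      (fun χ hχ => (F_f_re c T (Or.inl rfl) (Or.inl hχ)).ge) (fun χ hχ => (F_f_re c T (Or.inl rfl) (Or.inr hχ)).ge)
      (fun χ hχ => (W_f_re c T (Or.inl rfl) χ hχ).ge) (auxf hP2 hd1 hd2 hcase))
  · exact Cov.of_conj (IsConj.refl _) e (main _ 0 (-1) (-1) 0
      (by rw [stn_uG c (inv_mem (uG_mem_uSub c 1 0)) (inv_ne_one.2 (uG10_ne c))]; simp)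
      (fun χ hχ => (F_f_re c T (Or.inr rfl) (Or.inl hχ)).ge) (fun χ hχ => (F_f_re c T (Or.inr rfl) (Or.inr hχ)).ge)
      (fun χ hχ => (W_f_re c T (Or.inr rfl) χ hχ).ge) (auxf hP2 hd1 hd2 hcase))
  · rcases card_cz_cases c hfree with hN | hN
    · obtain ⟨g2, gW, gb, gs⟩ := T.free1 g hfree hN
      obtain ⟨B, hB, hBd⟩ : ∃ B : ℝ, (∀ χ ∈ F1, ‖χ.1 g‖ ≤ B) ∧
          (2 * P ^ 2 + 2 * P - 3) * B ≤ 27 / 35 * ((2 * P ^ 2 - 1) * (2 * P ^ 2 - 2 * P + 1)) := by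
        rcases (show m = 1 ∨ 2 ≤ m by have := c.hm; omega) with hm | hm
        · have hP' : P = 2 := by rw [hPdef, hm]; norm_num
          refine ⟨3, fun χ hχ => ?_, by rw [hP']; norm_num⟩
          have := Finset.single_le_sum (f := fun χ : IrrCharacter ↥(Cfsg.Sz F m) => ‖χ.1 g‖ ^ 2)
            (fun χ _ => sq_nonneg _) hχ
          rw [gs, show (2 : ℝ) ^ m = 2 by rw [hm]; norm_num] at this
          norm_num at this
          nlinarith [norm_nonneg (χ.1 g)]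
        · have hP' : (4 : ℝ) ≤ P := le_trans (by norm_num) (pow_le_pow_right₀ (by norm_num) hm)
          exact ⟨4, gb, by nlinarith [mul_nonneg (mul_nonneg (sub_nonneg.2 hP') (sub_nonneg.2 hP')) (sub_nonneg.2 hP')]⟩
      refine main g (-1) (-B) 0 1 (by rw [stn_free c hfree]; simp)
        (fun χ hχ => le_trans (neg_le_neg (hB χ hχ)) (neg_le_of_abs_le (Complex.abs_re_le_norm _)))
        (fun χ hχ => by rw [g2 χ hχ]; simp) (fun χ hχ => by rw [gW χ hχ]; simp) ?_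
      have e5 : -(27 / 35) ≤ s1 * -B / ((2 * P ^ 2 - 1) * (2 * P ^ 2 - 2 * P + 1)) := by
        rw [le_div_iff₀ hd1]
        rcases hcase with ⟨rfl, -⟩ | ⟨rfl, -⟩ <;> nlinarith
      have : 0 ≤ 2 * 1 / ((2 * P ^ 2 - 1) * P) := by positivity
      simp only [mul_zero, zero_div]
      rw [neg_div]
      linarith
    · obtain ⟨g1, gb, -, gW⟩ := T.free2 g hfree hN
      refine main g (-1) 0 (-4) (-1) (by rw [stn_free c hfree]; simp) (fun χ hχ => by rw [g1 χ hχ]; simp)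
        (fun χ hχ => le_trans (neg_le_neg (gb χ hχ)) (neg_le_of_abs_le (Complex.abs_re_le_norm _)))
        (fun χ hχ => by rw [gW χ hχ]; simp) ?_
      have e5 : -(1 / 2) ≤ s2 * -4 / ((2 * P ^ 2 - 1) * (2 * P ^ 2 + 2 * P + 1)) := by
        rw [le_div_iff₀ hd2]
        rcases hcase with ⟨-, rfl⟩ | ⟨-, rfl⟩ <;> nlinarith
      simp only [mul_zero, zero_div]
      rw [neg_div]
      linarith
where
  auxf {P s1 s2 : ℝ} (hP2 : 2 ≤ P) (hd1 : 0 < (2 * P ^ 2 - 1) * (2 * P ^ 2 - 2 * P + 1))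
    (hd2 : 0 < (2 * P ^ 2 - 1) * (2 * P ^ 2 + 2 * P + 1))
    (hcase : (s1 = 2 * P ^ 2 + 2 * P - 3 ∧ s2 = 0) ∨ (s1 = 0 ∧ s2 = 2 * P ^ 2 - 2 * P - 3)) :
    0 < 1 + 0 / (Fintype.card F : ℝ) ^ 2 + s1 * -1 / ((2 * P ^ 2 - 1) * (2 * P ^ 2 - 2 * P + 1)) +
      s2 * -1 / ((2 * P ^ 2 - 1) * (2 * P ^ 2 + 2 * P + 1)) + 2 * 0 / ((2 * P ^ 2 - 1) * P) := by
    have e1 : -(1 / 2) < s1 * -1 / ((2 * P ^ 2 - 1) * (2 * P ^ 2 - 2 * P + 1)) := by
      rw [lt_div_iff₀ hd1]; rcases hcase with ⟨rfl, -⟩ | ⟨rfl, -⟩ <;> nlinarith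
    have e2 : -(1 / 2) < s2 * -1 / ((2 * P ^ 2 - 1) * (2 * P ^ 2 + 2 * P + 1)) := by
      rw [lt_div_iff₀ hd2]; rcases hcase with ⟨-, rfl⟩ | ⟨-, rfl⟩ <;> nlinarith
    simp only [mul_zero, zero_div]
    linarith

/-- every class of elements of order above two squares onto all nontrivial elements -/
theorem square_covers {x : ↥(Cfsg.Sz F m)} (hx : 2 < orderOf x) {g : ↥(Cfsg.Sz F m)} (hg : g ≠ 1) : Cov x g := by
  have hx1 : x ≠ 1 := fun e => by rw [e, orderOf_one] at hx; omega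
  rcases elem_cases c hx1 with ⟨h, h1, e⟩ | e | e | e | hfree
  · exact Cov.of_conj e (IsConj.refl _) (cover_torus c h1 hg)
  · exfalso
    obtain ⟨k, hk⟩ := isConj_iff.1 e
    have hz : uG c 0 1 * uG c 0 1 = 1 := by rw [uG_mul]; simp [add_self0, uG_zero]
    have hxx : x ^ 2 = 1 := by
      have : x = k⁻¹ * uG c 0 1 * k := by rw [← hk]; group
      rw [this, sq, show k⁻¹ * uG c 0 1 * k * (k⁻¹ * uG c 0 1 * k) = k⁻¹ * (uG c 0 1 * uG c 0 1) * k by group, hz]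
      group
    have := orderOf_le_of_pow_eq_one two_pos hxx
    omega
  · exact Cov.of_conj e (IsConj.refl _) (cover_f c hg)
  · refine Cov.of_conj e (IsConj.refl _) ?_
    have := (cover_f c (inv_ne_one.2 hg)).inv
    rwa [inv_inv] at this
  · exact cover_free c hfree hg

end Cfsg.Agent.Lib.SuzChar
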