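import Cfsg.Agent.Lib.SuzChar.Series

/-! Irreducibility of the principal series and orthogonality over the cuspidal characters. -/

set_option autoImplicit false
set_option linter.style.haveILetI false

namespace Cfsg.Agent.Lib.SuzChar

open Cfsg Cfsg.Agent.Lib.Suz Cfsg.Agent.Lib
open scoped ComplexConjugate

universe u

section Units

variable {H : Type u} [CommGroup H] [Fintype H] [DecidableEq H]

theorem conj_hom_apply (α : H →* ℂˣ) (h : H) : conj (α h : ℂ) = (α h : ℂ)⁻¹ :=
  eq_inv_of_mul_eq_one_right (Char.linear_conj_mul α h)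

theorem sum_hom (α : H →* ℂˣ) [Decidable (α = 1)] :
    ∑ h : H, (α h : ℂ) = if α = 1 then (Fintype.card H : ℂ) else 0 := by
  split_ifs with h1
  · simp [h1]
  · obtain ⟨k, hk⟩ : ∃ k, α k ≠ 1 := not_forall.1 fun e => h1 (MonoidHom.ext e)
    have e : ∑ h : H, (α h : ℂ) = (α k : ℂ) * ∑ h : H, (α h : ℂ) := by
      rw [Finset.mul_sum, ← Equiv.sum_comp (Equiv.mulLeft k)]
      exact Finset.sum_congr rfl fun h _ => by simp
    have : ((α k : ℂ) - 1) * ∑ h : H, (α h : ℂ) = 0 := by linear_combination -e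
    exact (mul_eq_zero.1 this).resolve_left (sub_ne_zero.2 fun e => hk (Units.ext e))

theorem card_homs : Nat.card (H →* ℂˣ) = Fintype.card H := by
  rw [CommGroup.card_monoidHom_of_hasEnoughRootsOfUnity, Nat.card_eq_fintype_card]

theorem sum_all_homs [Fintype (H →* ℂˣ)] (h : H) :
    ∑ α : H →* ℂˣ, (α h : ℂ) = if h = 1 then (Fintype.card H : ℂ) else 0 := by
  split_ifs with h1
  · simp [h1, ← card_homs (H := H)]
  · obtain ⟨β, hβ⟩ := CommGroup.exists_apply_ne_one_of_hasEnoughRootsOfUnity H ℂ h1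
    have e : ∑ α : H →* ℂˣ, (α h : ℂ) = (β h : ℂ) * ∑ α : H →* ℂˣ, (α h : ℂ) := by
      rw [Finset.mul_sum, ← Equiv.sum_comp (Equiv.mulLeft β)]
      exact Finset.sum_congr rfl fun h _ => by simp
    have : ((β h : ℂ) - 1) * ∑ α : H →* ℂˣ, (α h : ℂ) = 0 := by linear_combination -e
    exact (mul_eq_zero.1 this).resolve_left (sub_ne_zero.2 fun e => hβ (Units.ext e))

end Units

variable {F : Type u} [Field F] [Fintype F] [CharP F 2] {m : ℕ} (c : Ctx F m)
variable [DecidableEq F] [Fintype ↥(Cfsg.Sz F m)]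

include c

theorem card_units_eq : (Fintype.card Fˣ : ℂ) = (Fintype.card F : ℂ) - 1 := by
  have := c.eight_le
  rw [Fintype.card_units, Nat.cast_sub (by omega), Nat.cast_one]

theorem even_q : 2 ∣ Fintype.card F := even_card c

theorem eq_one_of_sq (α : Fˣ →* ℂˣ) (h : α * α = 1) : α = 1 := by
  obtain ⟨k, hk⟩ := even_q c
  have := c.eight_le
  refine MonoidHom.ext fun x => ?_
  have h2 : α x ^ 2 = 1 := by rw [sq]; exact DFunLike.congr_fun h x
  have hq : α x ^ Fintype.card Fˣ = 1 := by rw [← map_pow, pow_card_eq_one, map_one]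
  have e : α x = α x ^ Fintype.card Fˣ * α x := by rw [hq, one_mul]
  rw [← pow_succ, show Fintype.card Fˣ + 1 = 2 * k by rw [Fintype.card_units]; omega, pow_mul, h2, one_pow] at e
  exact e

theorem uG_eq_one_iff (p : F × F) : uG c p.1 p.2 = 1 ↔ p = 0 := by
  constructor
  · intro e
    rw [← uG_zero c] at e
    exact Prod.ext (uG_inj c e).1 (uG_inj c e).2
  · rintro rfl
    exact uG_zero c

theorem sum_uG_prin (β : Fˣ →* ℂˣ) :
    ∑ p : F × F, prin c β (uG c p.1 p.2) = 2 * (Fintype.card F : ℂ) ^ 2 := by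
  classical
  rw [← Finset.add_sum_erase _ _ (Finset.mem_univ (0 : F × F))]
  have e : ∀ p ∈ Finset.univ.erase (0 : F × F), prin c β (uG c p.1 p.2) = 1 := fun p hp =>
    prin_uG c β (uG_mem_uSub c _ _) fun e => (Finset.mem_erase.1 hp).1 ((uG_eq_one_iff c p).1 e)
  rw [Finset.sum_congr rfl e, Finset.sum_const, Finset.card_erase_of_mem (Finset.mem_univ _), Finset.card_univ,
    Fintype.card_prod, nsmul_eq_mul, mul_one, Nat.cast_sub (Nat.mul_pos Fintype.card_pos Fintype.card_pos)]
  simp only [Prod.fst_zero, Prod.snd_zero, uG_zero, prin_one]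
  push_cast
  ring

open scoped Classical in
theorem inner_prin (α β : Fˣ →* ℂˣ) :
    classInner (prin c α) (prin c β) = (if α = β then 1 else 0) + (if α * β = 1 then 1 else 0) := by
  have hq : (Fintype.card F : ℂ) ≠ 0 := Nat.cast_ne_zero.2 Fintype.card_ne_zero
  have hu : (Fintype.card Fˣ : ℂ) ≠ 0 := Nat.cast_ne_zero.2 Fintype.card_ne_zero
  have h := classInner_prin c α (prin_conj c β)
  have e : ∀ h : Fˣ, (α h : ℂ) * ∑ p : F × F, conj (prin c β (uG c p.1 p.2 * tHom c h)) =
      (Fintype.card F : ℂ) ^ 2 * (((α * β⁻¹) h : ℂ) + ((α * β) h : ℂ)) := by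
    intro h
    rw [← map_sum]
    by_cases h1 : h = 1
    · subst h1
      simp only [map_one, mul_one, sum_uG_prin, Units.val_one, map_mul, map_pow, Complex.conj_natCast,
        map_ofNat, one_mul]
      ring
    · rw [sum_torus_shift c (prin_conj c β) h1, prin_tHom c β h1, map_mul, map_pow, Complex.conj_natCast,
        map_add, map_inv₀, conj_hom_apply, inv_inv]
      simp only [MonoidHom.mul_apply, MonoidHom.inv_apply, Units.val_mul, Units.val_inv_eq_inv_val]
      ring
  rw [Finset.sum_congr rfl fun h _ => e h, ← Finset.mul_sum, Finset.sum_add_distrib, sum_hom, sum_hom,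
    ← Nat.card_congr (borEquiv c), Nat.card_prod, Nat.card_prod, Nat.card_eq_fintype_card, Nat.card_eq_fintype_card] at h
  push_cast at h
  refine mul_left_cancel₀ (mul_ne_zero (mul_ne_zero hq hq) hu) (h.trans ?_)
  by_cases e1 : α = β
  · by_cases e2 : α * β = 1
    · rw [if_pos (mul_inv_eq_one.2 e1), if_pos e2, if_pos e1, if_pos e2]; ring
    · rw [if_pos (mul_inv_eq_one.2 e1), if_neg e2, if_pos e1, if_neg e2]; ring
  · by_cases e2 : α * β = 1
    · rw [if_neg fun e => e1 (mul_inv_eq_one.1 e), if_pos e2, if_neg e1, if_pos e2]; ring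
    · rw [if_neg fun e => e1 (mul_inv_eq_one.1 e), if_neg e2, if_neg e1, if_neg e2]; ring

theorem inner_prin_one : classInner (prin c 1) (fun _ => (1 : ℂ)) = 1 := by
  have hq : (Fintype.card F : ℂ) ≠ 0 := Nat.cast_ne_zero.2 Fintype.card_ne_zero
  have hu : (Fintype.card Fˣ : ℂ) ≠ 0 := Nat.cast_ne_zero.2 Fintype.card_ne_zero
  have h := classInner_prin c 1 (χ := fun _ => (1 : ℂ)) (fun _ _ => rfl)
  simp only [MonoidHom.one_apply, Units.val_one, one_mul, map_one, Finset.sum_const, Finset.card_univ,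
    nsmul_eq_mul, mul_one, Fintype.card_prod] at h
  rw [← Nat.card_congr (borEquiv c), Nat.card_prod, Nat.card_prod, Nat.card_eq_fintype_card, Nat.card_eq_fintype_card] at h
  push_cast at h
  refine mul_left_cancel₀ (mul_ne_zero (mul_ne_zero hq hq) hu) (h.trans ?_)
  ring

theorem prin_irr {α : Fˣ →* ℂˣ} (h : α ≠ 1) : IsIrrCharacter ↥(Cfsg.Sz F m) (prin c α) := by
  classical
  refine Char.isIrrCharacter_of_norm_one (prin_isCharacter c α) ?_
  rw [inner_prin, if_pos rfl, if_neg fun e => h (eq_one_of_sq c α e), add_zero]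

/-- the Steinberg character -/
noncomputable def stn : ↥(Cfsg.Sz F m) → ℂ := prin c 1 - fun _ => 1

theorem stn_apply (g : ↥(Cfsg.Sz F m)) : stn c g = prin c 1 g - 1 := rfl

theorem stn_irr : IsIrrCharacter ↥(Cfsg.Sz F m) (stn c) := by
  classical
  have h1 := Char.isIrrCharacter_one (G := ↥(Cfsg.Sz F m))
  have hchar : IsCharacter ↥(Cfsg.Sz F m) (stn c) := by
    refine Char.isCharacter_iff_natCast.2 ⟨Char.isClassFunction_sub (prin_conj c 1) fun _ _ => rfl, fun χ => ?_⟩
    obtain ⟨n, hn⟩ := Char.classInner_natCast (prin_isCharacter c 1) (Char.isCharacter_of_isIrr χ.2)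
    rw [stn, Char.classInner_sub_left, hn, Char.classInner_irr h1 χ.2]
    split_ifs with e
    · rw [← e, inner_prin_one] at hn
      refine ⟨0, ?_⟩
      rw [← hn]
      simp
    · exact ⟨n, by simp⟩
  refine Char.isIrrCharacter_of_norm_one hchar ?_
  rw [stn, Char.classInner_sub_left, Char.classInner_sub_right, Char.classInner_sub_right, inner_prin,
    inner_prin_one, Char.classInner_irr_self h1, Char.classInner_conj_symm (prin c 1) (fun _ => (1 : ℂ)),
    inner_prin_one, map_one]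
  rw [if_pos (mul_one (1 : Fˣ →* ℂˣ))]
  norm_num

theorem stn_one : stn c 1 = (Fintype.card F : ℂ) ^ 2 := by rw [stn_apply, prin_one]; ring

theorem stn_uG {u : ↥(Cfsg.Sz F m)} (hu : u ∈ uSub c) (h1 : u ≠ 1) : stn c u = 0 := by
  rw [stn_apply, prin_uG c _ hu h1, sub_self]

theorem stn_tHom {h : Fˣ} (h1 : h ≠ 1) : stn c (tHom c h) = 1 := by
  rw [stn_apply, prin_tHom c _ h1]; simp

theorem stn_free {g : ↥(Cfsg.Sz F m)} (hg : IsFree g) : stn c g = -1 := by
  rw [stn_apply, prin_free c _ hg, zero_sub]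

/-- cuspidal irreducible characters -/
def IsCusp (χ : ↥(Cfsg.Sz F m) → ℂ) : Prop := ∀ α : Fˣ →* ℂˣ, classInner (prin c α) χ = 0

open scoped Classical in
/-- the finite set of cuspidal irreducible characters -/
noncomputable def cusp : Finset (IrrCharacter ↥(Cfsg.Sz F m)) :=
  Finset.univ.filter fun χ => IsCusp c χ.1

theorem mem_cusp {χ : IrrCharacter ↥(Cfsg.Sz F m)} : χ ∈ cusp c ↔ IsCusp c χ.1 := by
  simp [cusp]

theorem cusp_sum_uG {χ : IrrCharacter ↥(Cfsg.Sz F m)} (hχ : χ ∈ cusp c) (h : Fˣ) :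
    ∑ p : F × F, χ.1 (uG c p.1 p.2 * tHom c h) = 0 := by
  classical
  haveI : Fintype (Fˣ →* ℂˣ) := Fintype.ofFinite _
  have hcl := Char.isClassFunction_of_isIrr χ.2
  set f : Fˣ → ℂ := fun k => ∑ p : F × F, conj (χ.1 (uG c p.1 p.2 * tHom c k))
  have hf : ∀ α : Fˣ →* ℂˣ, ∑ k : Fˣ, (α k : ℂ) * f k = 0 := fun α => by
    rw [← classInner_prin c α hcl, (mem_cusp c).1 hχ α, mul_zero]
  have key : ∑ α : Fˣ →* ℂˣ, (α h⁻¹ : ℂ) * ∑ k : Fˣ, (α k : ℂ) * f k = (Fintype.card Fˣ : ℂ) * f h := by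
    simp only [Finset.mul_sum, ← mul_assoc, ← Units.val_mul, ← map_mul]
    rw [Finset.sum_comm]
    simp only [← Finset.sum_mul, sum_all_homs, inv_mul_eq_one, ite_mul, zero_mul]
    simp
  simp only [hf, mul_zero, Finset.sum_const_zero] at key
  have := (mul_eq_zero.1 key.symm).resolve_left (Nat.cast_ne_zero.2 Fintype.card_ne_zero)
  simp only [f, ← map_sum, map_eq_zero] at this
  exact this

theorem cusp_sum_U {χ : IrrCharacter ↥(Cfsg.Sz F m)} (hχ : χ ∈ cusp c) :
    ∑ p : F × F, χ.1 (uG c p.1 p.2) = 0 := by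
  simpa using cusp_sum_uG c hχ 1

theorem cusp_tHom {χ : IrrCharacter ↥(Cfsg.Sz F m)} (hχ : χ ∈ cusp c) {h : Fˣ} (h1 : h ≠ 1) :
    χ.1 (tHom c h) = 0 := by
  have := cusp_sum_uG c hχ h
  rw [sum_torus_shift c (Char.isClassFunction_of_isIrr χ.2) h1] at this
  exact (mul_eq_zero.1 this).resolve_left (pow_ne_zero 2 (Nat.cast_ne_zero.2 Fintype.card_ne_zero))

theorem not_cusp {χ : IrrCharacter ↥(Cfsg.Sz F m)} (hχ : χ ∉ cusp c) :
    χ.1 = (fun _ => 1) ∨ χ.1 = stn c ∨ ∃ α : Fˣ →* ℂˣ, α ≠ 1 ∧ χ.1 = prin c α := by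
  classical
  simp only [mem_cusp, IsCusp, not_forall] at hχ
  obtain ⟨α, hα⟩ := hχ
  by_cases h1 : α = 1
  · subst h1
    by_cases e1 : χ.1 = fun _ => 1
    · exact Or.inl e1
    refine Or.inr (Or.inl ?_)
    by_contra e2
    apply hα
    have : prin c 1 = stn c + fun _ => 1 := by rw [stn, sub_add_cancel]
    rw [this, Char.classInner_add_left, Char.classInner_irr_ne (stn_irr c) χ.2 (Ne.symm e2),
      Char.classInner_irr_ne Char.isIrrCharacter_one χ.2 (Ne.symm e1), add_zero]
  · refine Or.inr (Or.inr ⟨α, h1, ?_⟩)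
    by_contra e
    exact hα (Char.classInner_irr_ne (prin_irr c h1) χ.2 (Ne.symm e))

theorem one_not_cusp : (⟨fun _ => 1, Char.isIrrCharacter_one⟩ : IrrCharacter ↥(Cfsg.Sz F m)) ∉ cusp c := by
  intro h
  have := (mem_cusp c).1 h 1
  rw [inner_prin_one] at this
  exact one_ne_zero this

theorem stn_not_cusp : (⟨stn c, stn_irr c⟩ : IrrCharacter ↥(Cfsg.Sz F m)) ∉ cusp c := by
  classical
  intro h
  have := (mem_cusp c).1 h 1
  simp only at this
  rw [stn, Char.classInner_sub_right, inner_prin, inner_prin_one, if_pos rfl, if_pos (mul_one (1 : Fˣ →* ℂˣ))] at this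
  norm_num at this

theorem prin_not_cusp {α : Fˣ →* ℂˣ} (h : α ≠ 1) :
    (⟨prin c α, prin_irr c h⟩ : IrrCharacter ↥(Cfsg.Sz F m)) ∉ cusp c := by
  classical
  intro hc
  have := (mem_cusp c).1 hc α
  simp only at this
  rw [inner_prin, if_pos rfl, if_neg fun e => h (eq_one_of_sq c α e), add_zero] at this
  exact one_ne_zero this

/-- summing over all irreducible characters -/
theorem sum_irr_eq (f : (↥(Cfsg.Sz F m) → ℂ) → ℂ) [Fintype (Fˣ →* ℂˣ)] :
    ∑ χ : IrrCharacter ↥(Cfsg.Sz F m), f χ.1 = ∑ χ ∈ cusp c, f χ.1 + f (fun _ => 1) + f (stn c) +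
      (∑ α : Fˣ →* ℂˣ, f (prin c α) - f (prin c 1)) / 2 := by
  classical
  let A : Finset (Fˣ →* ℂˣ) := Finset.univ.erase 1
  have hA : ∀ a : {x // x ∈ A}, a.1 ≠ 1 := fun a => (Finset.mem_erase.1 a.2).1
  let P : {x // x ∈ A} → IrrCharacter ↥(Cfsg.Sz F m) := fun a => ⟨prin c a.1, prin_irr c (hA a)⟩
  let one' : IrrCharacter ↥(Cfsg.Sz F m) := ⟨fun _ => 1, Char.isIrrCharacter_one⟩
  let stn' : IrrCharacter ↥(Cfsg.Sz F m) := ⟨stn c, stn_irr c⟩
  have hP1 : ∀ a, P a ≠ one' := fun a e => by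
    have := congrFun (congrArg Subtype.val e) 1
    simp only [P, one', prin_one] at this
    exact pow_ne_zero 2 (Nat.cast_ne_zero.2 Fintype.card_ne_zero : (Fintype.card F : ℂ) ≠ 0)
      (by linear_combination this)
  have hP2 : ∀ a, P a ≠ stn' := fun a e => by
    have := congrFun (congrArg Subtype.val e) 1
    simp only [P, stn', prin_one, stn_one] at this
    exact one_ne_zero (α := ℂ) (by linear_combination this)
  have h12 : one' ≠ stn' := fun e => by
    have := congrFun (congrArg Subtype.val e) 1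
    simp only [one', stn', stn_one] at this
    have h8 := c.eight_le
    have h' : ((Fintype.card F ^ 2 : ℕ) : ℂ) = ((1 : ℕ) : ℂ) := by push_cast; exact this.symm
    have := Nat.cast_injective h'
    nlinarith
  have hunion : (Finset.univ : Finset (IrrCharacter ↥(Cfsg.Sz F m))) =
      cusp c ∪ insert one' (insert stn' (A.attach.image P)) := by
    ext χ
    simp only [Finset.mem_univ, true_iff, Finset.mem_union, Finset.mem_insert, Finset.mem_image]
    by_cases h : χ ∈ cusp c
    · exact Or.inl h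
    refine Or.inr ?_
    rcases not_cusp c h with e | e | ⟨α, hα, e⟩
    · exact Or.inl (Subtype.ext e)
    · exact Or.inr (Or.inl (Subtype.ext e))
    · exact Or.inr (Or.inr ⟨⟨α, Finset.mem_erase.2 ⟨hα, Finset.mem_univ _⟩⟩, Finset.mem_attach _ _,
        Subtype.ext e.symm⟩)
  have hdisj : Disjoint (cusp c) (insert one' (insert stn' (A.attach.image P))) := by
    rw [Finset.disjoint_right]
    intro χ hχ
    simp only [Finset.mem_insert, Finset.mem_image] at hχ
    rcases hχ with rfl | rfl | ⟨a, -, rfl⟩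
    · exact one_not_cusp c
    · exact stn_not_cusp c
    · exact prin_not_cusp c (hA a)
  have hfib : ∀ χ ∈ A.attach.image P, ({a ∈ A.attach | P a = χ}).card = 2 := by
    intro χ hχ
    obtain ⟨a, -, rfl⟩ := Finset.mem_image.1 hχ
    have hne : a.1⁻¹ ≠ 1 := fun e => hA a (MonoidHom.ext fun x => inv_eq_one.1 (DFunLike.congr_fun e x))
    let b : {x // x ∈ A} := ⟨a.1⁻¹, Finset.mem_erase.2 ⟨hne, Finset.mem_univ _⟩⟩
    have hab : a ≠ b := fun e => hA a (eq_one_of_sq c _ (by
      have e' : a.1 = a.1⁻¹ := congrArg Subtype.val e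
      nth_rewrite 2 [e']
      exact mul_inv_cancel a.1))
    have hiff : ∀ x : {x // x ∈ A}, P x = P a ↔ x = a ∨ x = b := by
      intro x
      have hin := inner_prin c x.1 a.1
      constructor
      · intro e
        rw [show prin c x.1 = prin c a.1 from congrArg Subtype.val e,
          Char.classInner_irr_self (prin_irr c (hA a))] at hin
        by_contra hno
        push Not at hno
        split_ifs at hin with e1 e2 e2
        · exact hno.1 (Subtype.ext e1)
        · exact hno.1 (Subtype.ext e1)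
        · exact hno.2 (Subtype.ext (MonoidHom.ext fun t => eq_inv_of_mul_eq_one_left (DFunLike.congr_fun e2 t)))
        · simp at hin
      · intro h
        by_contra e
        have hne' : prin c x.1 ≠ prin c a.1 := fun e' => e (Subtype.ext e')
        rw [Char.classInner_irr_ne (prin_irr c (hA x)) (prin_irr c (hA a)) hne'] at hin
        rcases h with rfl | rfl
        · exact e rfl
        · have hb : b.1 * a.1 = 1 := inv_mul_cancel a.1
          rw [if_pos hb, if_neg fun e => hab (Subtype.ext e.symm)] at hin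
          simp at hin
    rw [show ({x ∈ A.attach | P x = P a}) = {a, b} by ext x; simp [hiff]]
    exact Finset.card_pair hab
  have hhalf : ∑ χ ∈ A.attach.image P, f χ.1 = (∑ α : Fˣ →* ℂˣ, f (prin c α) - f (prin c 1)) / 2 := by
    have e1 : ∑ a ∈ A.attach, f (prin c a.1) = ∑ χ ∈ A.attach.image P, (2 : ℕ) • f χ.1 := by
      rw [show ∑ a ∈ A.attach, f (prin c a.1) = ∑ a ∈ A.attach, (fun χ : IrrCharacter ↥(Cfsg.Sz F m) => f χ.1) (P a)
        from rfl, Finset.sum_comp (fun χ : IrrCharacter ↥(Cfsg.Sz F m) => f χ.1) P]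
      exact Finset.sum_congr rfl fun χ hχ => by rw [hfib χ hχ]
    rw [Finset.sum_attach A fun α => f (prin c α), ← Finset.smul_sum] at e1
    rw [← Finset.add_sum_erase _ _ (Finset.mem_univ (1 : Fˣ →* ℂˣ)), show ∑ x ∈ Finset.univ.erase 1, f (prin c x) =
      ∑ α ∈ A, f (prin c α) from rfl, e1]
    simp
  rw [show ∑ χ : IrrCharacter ↥(Cfsg.Sz F m), f χ.1 =
      ∑ χ ∈ cusp c ∪ insert one' (insert stn' (A.attach.image P)), f χ.1 by rw [← hunion],
    Finset.sum_union hdisj, Finset.sum_insert, Finset.sum_insert, hhalf]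
  · ring
  · simp only [Finset.mem_image, not_exists, not_and]; exact fun a _ => hP2 a
  · simp only [Finset.mem_insert, Finset.mem_image, not_or, not_exists, not_and]
    exact ⟨h12, fun a _ => hP1 a⟩

/-- column orthogonality over the cuspidal characters -/
theorem cusp_column (g h : ↥(Cfsg.Sz F m)) [Fintype (Fˣ →* ℂˣ)] [Decidable (IsConj g h)] :
    ∑ χ ∈ cusp c, χ.1 g * conj (χ.1 h) =
      (if IsConj g h then (Nat.card (Subgroup.centralizer ({h} : Set ↥(Cfsg.Sz F m))) : ℂ) else 0) - 1 -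
        stn c g * conj (stn c h) -
        (∑ α : Fˣ →* ℂˣ, prin c α g * conj (prin c α h) - prin c 1 g * conj (prin c 1 h)) / 2 := by
  classical
  have h1 := sum_irr_eq c fun χ => χ g * conj (χ h)
  rw [Char.sum_irr_mul_conj] at h1
  simp only [map_one, mul_one] at h1
  have e : (Nat.card ↥(Cfsg.Sz F m) : ℂ) / (Finset.univ.filter fun x => IsConj x h).card =
      (Nat.card (Subgroup.centralizer ({h} : Set ↥(Cfsg.Sz F m))) : ℂ) := by
    have e0 : (Finset.univ.filter fun x => IsConj x h).card =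
        (Subgroup.centralizer ({h} : Set ↥(Cfsg.Sz F m))).index := by convert Char.card_conjClass_eq_index h
    rw [e0, ← Subgroup.card_mul_index (Subgroup.centralizer ({h} : Set ↥(Cfsg.Sz F m))),
      Nat.cast_mul, mul_div_assoc, div_self, mul_one]
    exact Nat.cast_ne_zero.2 Subgroup.index_ne_zero_of_finite
  have h2 : (if IsConj g h then (Nat.card (Subgroup.centralizer ({h} : Set ↥(Cfsg.Sz F m))) : ℂ) else 0) =
      ∑ χ ∈ cusp c, χ.1 g * conj (χ.1 h) + 1 + stn c g * conj (stn c h) +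
        (∑ α : Fˣ →* ℂˣ, prin c α g * conj (prin c α h) - prin c 1 g * conj (prin c 1 h)) / 2 := by
    rw [← h1]
    by_cases hc : IsConj g h
    · simp only [if_pos hc]
      rw [← e]
      congr!
    · simp only [if_neg hc]
  linear_combination -h2

end Cfsg.Agent.Lib.SuzChar
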