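import Cfsg.Agent.Lib.SuzChar.Column

/-! The exceptional family attached to a fixed-point-free element. -/

set_option autoImplicit false
set_option linter.style.haveILetI false
set_option linter.unusedSectionVars false

namespace Cfsg.Agent.Lib.SuzChar

open Cfsg Cfsg.Agent.Lib.Suz Cfsg.Agent.Lib
open scoped ComplexConjugate
open Complex (I)

universe u

/-- the numerical step -/
theorem fam_numeric {p L N n0 ε a e : ℤ} (hp : 2 ≤ p) (hε : ε = 1 ∨ ε = -1) (hL : 4 * L + 1 = N) (ha : 0 ≤ a)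
    (hn : L * n0 ^ 2 - 2 * ε * n0 ≤ 2) (hA : L * a ^ 2 ≤ p ^ 2) (hcong : p ∣ e - a) (he : 1 ≤ e)
    (hZ : L * (2 * p ^ 2 * a - e) ^ 2 ≤ 4 * p ^ 4 - p ^ 2) (hmod : N ∣ (2 * p ^ 2 - 1) * e - (n0 + 4 * ε))
    (hN : N = 2 * p ^ 2 + 2 * p + 1 ∧ 2 * p ^ 2 - 2 * p + 1 = 2 * p ^ 2 - 2 * p + 1 ∨
      N = 2 * p ^ 2 - 2 * p + 1 ∧ 4 ≤ p) :
    a = 1 ∧ n0 = 0 ∧
      (N = 2 * p ^ 2 + 2 * p + 1 → e = 2 * p ^ 2 - 2 * p + 1) ∧
      (N = 2 * p ^ 2 - 2 * p + 1 → e = 2 * p ^ 2 + 2 * p + 1) := by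
  obtain ⟨t, ht⟩ := hcong
  have he' : e = a + p * t := by linarith
  subst he'
  have hL3 : 3 ≤ L := by rcases hN with ⟨h, -⟩ | ⟨h, h3⟩ <;> nlinarith
  have hN13 : 13 ≤ N := by linarith
  have hn1 : n0 = 0 ∨ n0 = ε := by
    have hb : -1 ≤ n0 ∧ n0 ≤ 1 := by
      constructor <;> by_contra hc
      · push Not at hc
        have : L * n0 ^ 2 ≥ 3 * n0 ^ 2 := by nlinarith [sq_nonneg n0]
        rcases hε with rfl | rfl <;> nlinarith
      · push Not at hc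
        have : L * n0 ^ 2 ≥ 3 * n0 ^ 2 := by nlinarith [sq_nonneg n0]
        rcases hε with rfl | rfl <;> nlinarith
    obtain ⟨b1, b2⟩ := hb
    rcases hε with rfl | rfl <;> interval_cases n0 <;> omega
  have hn4 : n0 ≠ 0 → L ≤ 4 := by
    intro h
    have e : n0 = ε := hn1.resolve_left h
    subst e
    rcases hε with rfl | rfl <;> linarith
  have hv : (n0 + 4 * ε = 4 ∨ n0 + 4 * ε = -4) ∧ n0 = 0 ∨ (n0 + 4 * ε = 5 ∨ n0 + 4 * ε = -5) ∧ n0 ≠ 0 := by
    rcases hn1 with h | h <;> rcases hε with rfl | rfl <;> omega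
  have small : ∀ x : ℤ, N ∣ x → -13 < x → x < 13 → x = 0 := fun x hx h1 h2 =>
    Int.eq_zero_of_abs_lt_dvd hx (abs_lt.2 ⟨by linarith, by linarith⟩)
  have ha1 : a ≤ 1 := by
    by_contra hc
    have h4 : 4 ≤ a ^ 2 := by nlinarith
    have : 4 * L ≤ p ^ 2 := by nlinarith
    rcases hN with ⟨h, -⟩ | ⟨h, h3⟩ <;> nlinarith
  rcases (show a = 0 ∨ a = 1 by omega) with rfl | rfl
  · exfalso
    have ht1 : 1 ≤ t := by
      by_contra hc
      have : p * t ≤ 0 := mul_nonpos_of_nonneg_of_nonpos (by omega) (by omega)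
      linarith
    have hp2 : 0 < p ^ 2 := by positivity
    have hLt : L * t ^ 2 ≤ 4 * p ^ 2 - 1 := by
      refine le_of_mul_le_mul_left ?_ hp2
      linarith [hZ, show p ^ 2 * (L * t ^ 2) = L * (2 * p ^ 2 * 0 - (0 + p * t)) ^ 2 by ring,
        show p ^ 2 * (4 * p ^ 2 - 1) = 4 * p ^ 4 - p ^ 2 by ring]
    rcases hN with ⟨h, -⟩ | ⟨h, h3⟩
    · have ht2 : t ≤ 2 := by
        by_contra hc
        have : 9 ≤ t ^ 2 := by nlinarith
        nlinarith
      have hd : N ∣ t - (n0 + 4 * ε) := by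
        have : N ∣ (2 * p ^ 2 - 1) * (0 + p * t) - t := ⟨(p - 1) * t, by rw [h]; ring⟩
        have h' := dvd_sub hmod this
        rwa [show (2 * p ^ 2 - 1) * (0 + p * t) - (n0 + 4 * ε) - ((2 * p ^ 2 - 1) * (0 + p * t) - t) =
          t - (n0 + 4 * ε) by ring] at h'
      have := small _ hd (by omega) (by omega)
      omega
    · have ht2 : t ≤ 3 := by
        by_contra hc
        have : 16 ≤ t ^ 2 := by nlinarith
        nlinarith
      have hd : N ∣ -t - (n0 + 4 * ε) := by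
        have : N ∣ (2 * p ^ 2 - 1) * (0 + p * t) + t := ⟨(p + 1) * t, by rw [h]; ring⟩
        have h' := dvd_sub hmod this
        rwa [show (2 * p ^ 2 - 1) * (0 + p * t) - (n0 + 4 * ε) - ((2 * p ^ 2 - 1) * (0 + p * t) + t) =
          -t - (n0 + 4 * ε) by ring] at h'
      have := small _ hd (by omega) (by omega)
      omega
  · obtain ⟨u, rfl⟩ : ∃ u, t = 2 * p - u := ⟨2 * p - t, by ring⟩
    have hZ' : L * (p * u - 1) ^ 2 ≤ 4 * p ^ 4 - p ^ 2 := by
      rw [show p * u - 1 = 2 * p ^ 2 * 1 - (1 + p * (2 * p - u)) by ring]; exact hZ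
    have hub : ∀ w : ℤ, 4 * p - 1 ≤ w → ¬ L * w ^ 2 ≤ 4 * p ^ 4 - p ^ 2 := by
      intro w hw hle
      have h1 : (4 * p - 1) ^ 2 ≤ w ^ 2 := pow_le_pow_left₀ (by omega) hw 2
      have h2 : L * (4 * p - 1) ^ 2 ≤ 4 * p ^ 4 - p ^ 2 := le_trans (by nlinarith) hle
      rcases hN with ⟨h, -⟩ | ⟨h, h3⟩
      · nlinarith [mul_le_mul_of_nonneg_left hp (sq_nonneg p)]
      · nlinarith [mul_le_mul_of_nonneg_left h3 (sq_nonneg p), mul_le_mul_of_nonneg_left h3 (mul_nonneg (sq_nonneg p) (by omega : 0 ≤ p))]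
    have hu1 : u ≤ 3 := by
      by_contra hc
      exact hub (p * u - 1) (by nlinarith) hZ'
    have hu2 : -3 ≤ u := by
      by_contra hc
      exact hub (-(p * u - 1)) (by nlinarith) (by rwa [neg_sq])
    rcases hN with ⟨h, -⟩ | ⟨h, h3⟩
    · have hd : N ∣ -2 - u - (n0 + 4 * ε) := by
        have : N ∣ (2 * p ^ 2 - 1) * (1 + p * (2 * p - u)) - (-2 - u) :=
          ⟨(2 * p ^ 2 - 2 * p + 1) - u * (p - 1), by rw [h]; ring⟩
        have h' := dvd_sub hmod this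
        rwa [show (2 * p ^ 2 - 1) * (1 + p * (2 * p - u)) - (n0 + 4 * ε) -
          ((2 * p ^ 2 - 1) * (1 + p * (2 * p - u)) - (-2 - u)) = -2 - u - (n0 + 4 * ε) by ring] at h'
      have e := small _ hd (by omega) (by omega)
      rcases hv with ⟨hv, hn0⟩ | ⟨hv, hn0⟩
      · have hu : u = 2 := by omega
        subst hu
        exact ⟨rfl, hn0, fun _ => by ring, fun h' => by linarith⟩
      · exfalso
        have hu : u = 3 := by omega
        subst hu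
        have hp' : p = 2 := by
          by_contra hne
          have : 3 ≤ p := by omega
          nlinarith [hn4 hn0]
        subst hp'
        norm_num at h
        subst h
        linarith
    · have hd : N ∣ u - 2 - (n0 + 4 * ε) := by
        have : N ∣ (2 * p ^ 2 - 1) * (1 + p * (2 * p - u)) - (u - 2) :=
          ⟨(2 * p ^ 2 + 2 * p + 1) - u * (p + 1), by rw [h]; ring⟩
        have h' := dvd_sub hmod this
        rwa [show (2 * p ^ 2 - 1) * (1 + p * (2 * p - u)) - (n0 + 4 * ε) -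
          ((2 * p ^ 2 - 1) * (1 + p * (2 * p - u)) - (u - 2)) = u - 2 - (n0 + 4 * ε) by ring] at h'
      have e := small _ hd (by omega) (by omega)
      rcases hv with ⟨hv, hn0⟩ | ⟨hv, hn0⟩
      · have hu : u = -2 := by omega
        subst hu
        exact ⟨rfl, hn0, fun h' => by linarith, fun _ => by ring⟩
      · exfalso
        nlinarith [hn4 hn0]

variable {F : Type u} [Field F] [Fintype F] [CharP F 2] {m : ℕ} (c : Ctx F m)
variable [DecidableEq F] [Fintype ↥(Cfsg.Sz F m)]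

include c

theorem not_conj_free {g h : ↥(Cfsg.Sz F m)} (hg : IsFree g) (hh : ¬ IsFree h) {a : ↥(Cfsg.Sz F m)}
    (ha : a ∈ cz g) (h1 : a ≠ 1) : ¬ IsConj a h := fun e => by
  obtain ⟨k, hk⟩ := isConj_iff.1 e
  exact hh (hk ▸ isFree_conj (free_of_mem_cz c hg ha h1))

theorem uG_not_free (a b : F) : ¬ IsFree (uG c a b) := fun h => h _ (uG_smul_inf c a b)

theorem one_not_free : ¬ IsFree (1 : ↥(Cfsg.Sz F m)) := fun h => isFree_ne_one h rfl

theorem cusp_degree_ne {χ : IrrCharacter ↥(Cfsg.Sz F m)} (hχ : χ ∈ cusp c) (d : ℕ)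
    (hd : d = 1 ∨ d = Fintype.card F ^ 2 ∨ d = Fintype.card F ^ 2 + 1) : χ.1 1 ≠ d := by
  intro h
  obtain ⟨a, k, e, -, -, h1, -, -⟩ := cusp_unip c hχ
  rw [h] at h1
  have h2 : (d : ℤ) = ((Fintype.card F : ℤ) - 1) * e := by exact_mod_cast h1
  have h8 : (8 : ℤ) ≤ Fintype.card F := by exact_mod_cast c.eight_le
  set q : ℤ := (Fintype.card F : ℤ)
  obtain ⟨r, hr, hr'⟩ : ∃ r : ℤ, (q - 1) ∣ r ∧ (r = 1 ∨ r = 2) := by
    rcases hd with rfl | rfl | rfl
    · exact ⟨1, ⟨e, by exact_mod_cast h2⟩, Or.inl rfl⟩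
    · push_cast at h2
      exact ⟨1, ⟨e - q - 1, by linear_combination h2⟩, Or.inl rfl⟩
    · push_cast at h2
      exact ⟨2, ⟨e - q - 1, by linear_combination h2⟩, Or.inr rfl⟩
  have := Int.le_of_dvd (by omega) hr
  omega

theorem noncusp_sum_sq (g : ↥(Cfsg.Sz F m)) (hg : IsFree g) :
    ∑ χ ∈ Finset.univ.filter (fun χ => χ ∉ cusp c), χ.1 g ^ 2 = 2 := by
  classical
  haveI : Fintype (Fˣ →* ℂˣ) := Fintype.ofFinite _
  have h := sum_irr_eq c fun φ => φ g ^ 2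
  rw [← Finset.sum_filter_add_sum_filter_not Finset.univ (fun χ => χ ∈ cusp c)] at h
  rw [show Finset.univ.filter (fun χ => χ ∈ cusp c) = cusp c by ext; simp] at h
  simp only [prin_free c _ hg, stn_free c hg, zero_pow (two_ne_zero' ℕ), Finset.sum_const_zero] at h
  linear_combination h

/-- the exceptional family of a fixed-point-free element -/
theorem fam_of_free {a k e : IrrCharacter ↥(Cfsg.Sz F m) → ℤ}
    (hv : ∀ χ ∈ cusp c, UnipVal c χ.1 (a χ) (k χ) (e χ)) {g : ↥(Cfsg.Sz F m)} (hg : IsFree g)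
    (hN : (Nat.card (cz g) : ℤ) = 2 * (2 ^ m) ^ 2 + 2 * 2 ^ m + 1 ∨
      (Nat.card (cz g) : ℤ) = 2 * (2 ^ m) ^ 2 - 2 * 2 ^ m + 1 ∧ 2 ≤ m) :
    ∃ Fam : Finset (IrrCharacter ↥(Cfsg.Sz F m)), Fam ⊆ cusp c ∧ 4 * Fam.card + 1 = Nat.card (cz g) ∧
      (∀ χ ∈ Fam, a χ = 1 ∧ k χ = 0 ∧
        ((Nat.card (cz g) : ℤ) = 2 * (2 ^ m) ^ 2 + 2 * 2 ^ m + 1 → e χ = 2 * (2 ^ m) ^ 2 - 2 * 2 ^ m + 1) ∧
        ((Nat.card (cz g) : ℤ) = 2 * (2 ^ m) ^ 2 - 2 * 2 ^ m + 1 → e χ = 2 * (2 ^ m) ^ 2 + 2 * 2 ^ m + 1) ∧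
        ‖χ.1 g‖ ≤ 4) ∧
      (∀ χ ∈ cusp c, χ ∉ Fam → ∃ n : ℤ, χ.1 g = n ∧
        (Nat.card (cz g) : ℤ) ∣ (2 * (2 ^ m) ^ 2 - 1) * e χ - n ∧ n ^ 2 ≤ 2) := by
  classical
  haveI : Fintype ↥(cz g) := Fintype.ofFinite _
  have hA := torus_hyp c hg
  have hp : (2 : ℤ) ≤ 2 ^ m := p_two_le c
  have hp4 : 2 ≤ m → (4 : ℤ) ≤ 2 ^ m := fun h2 => le_trans (by norm_num) (pow_le_pow_right₀ (by norm_num) h2)
  have h13 : 13 ≤ Nat.card (cz g) := by
    have : (13 : ℤ) ≤ Nat.card (cz g) := by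
      rcases hN with h | ⟨h, h2⟩
      · rw [h]; nlinarith
      · rw [h]; nlinarith [hp4 h2]
    exact_mod_cast this
  obtain ⟨Fam, n, ε, n0, hε, hcard, hnF, hnorm, hout, hin, hagree⟩ := exists_exceptional hA (by omega)
  have hL : 3 ≤ Fam.card := by omega
  -- members of the family agree outside the torus classes
  have hag : ∀ χ ∈ Fam, ∀ ψ ∈ Fam, ∀ h, ¬ IsFree h → χ.1 h = ψ.1 h := fun χ hχ ψ hψ h hh =>
    hagree χ hχ ψ hψ h fun a ha h1 => not_conj_free c hg hh ha h1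
  have hsub : Fam ⊆ cusp c := by
    intro χ hχ
    by_contra hnc
    obtain ⟨ψ, hψ, hne⟩ := Finset.exists_mem_ne (by omega : 1 < Fam.card) χ
    have h1 := hag χ hχ ψ hψ 1 (one_not_free c)
    by_cases hψc : ψ ∈ cusp c
    · rcases not_cusp c hnc with e | e | ⟨α, -, e⟩
      · exact cusp_degree_ne c hψc 1 (Or.inl rfl) (by rw [← h1, e]; simp)
      · exact cusp_degree_ne c hψc _ (Or.inr (Or.inl rfl)) (by rw [← h1, e, stn_one]; push_cast; rfl)
      · exact cusp_degree_ne c hψc _ (Or.inr (Or.inr rfl)) (by rw [← h1, e, prin_one]; push_cast; rfl)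
    · apply hne
      have h8 : (8 : ℕ) ≤ Fintype.card F := c.eight_le
      have hcast : ∀ x y : ℕ, x ≠ y → (x : ℂ) ≠ y := fun x y h => Nat.cast_injective.ne h
      have n1 := hcast (Fintype.card F ^ 2) 1 (by nlinarith)
      have n2 := hcast (Fintype.card F ^ 2 + 1) 1 (by nlinarith)
      have n3 := hcast (Fintype.card F ^ 2 + 1) (Fintype.card F ^ 2) (by omega)
      push_cast at n1 n2 n3
      rcases not_cusp c hnc with e | e | ⟨α, -, e⟩ <;> rcases not_cusp c hψc with e' | e' | ⟨β, -, e'⟩ <;>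
        rw [e, e'] at h1 <;> simp only [stn_one, prin_one] at h1
      · exact Subtype.ext (e'.trans e.symm)
      · exact absurd h1.symm n1
      · exact absurd h1.symm n2
      · exact absurd h1 n1
      · exact Subtype.ext (e'.trans e.symm)
      · exact absurd h1.symm n3
      · exact absurd h1 n2
      · exact absurd h1 n3
      · refine Subtype.ext (funext fun h => ?_)
        by_cases hh : IsFree h
        · rw [e, e', prin_free c _ hh, prin_free c _ hh]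
        · exact (hag χ hχ ψ hψ h hh).symm
  obtain ⟨χ0, hχ0⟩ := Finset.card_pos.1 (by omega : 0 < Fam.card)
  have hval : ∀ χ ∈ Fam, a χ = a χ0 ∧ k χ = k χ0 ∧ e χ = e χ0 := by
    intro χ hχ
    have v := hv χ (hsub hχ)
    have v0 := hv χ0 (hsub hχ0)
    have h1 := hag χ hχ χ0 hχ0 1 (one_not_free c)
    have h2 := hag χ hχ χ0 hχ0 _ (uG_not_free c 1 0)
    rw [v.one, v0.one] at h1
    rw [v.f, v0.f] at h2
    have h2r := congrArg Complex.re h2
    have h2i := congrArg Complex.im h2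
    simp only [Complex.add_re, Complex.add_im, Complex.neg_re, Complex.neg_im, Complex.intCast_re,
      Complex.intCast_im, Complex.mul_re, Complex.mul_im, Complex.I_re, Complex.I_im, mul_zero, mul_one,
      zero_mul, sub_zero, add_zero, zero_add, neg_zero, neg_inj] at h2r h2i
    refine ⟨by exact_mod_cast h2r, ?_, ?_⟩
    · exact mul_left_cancel₀ (by positivity) (Int.cast_injective h2i)
    · have h8 := c.eight_le
      have hne : (Fintype.card F : ℂ) - 1 ≠ 0 := by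
        rw [sub_ne_zero]
        exact_mod_cast (show Fintype.card F ≠ 1 by omega)
      exact_mod_cast mul_left_cancel₀ hne h1
  obtain ⟨hS, hK, -, -, -, hZ, -⟩ := unip_sums c hv
  have hle : ∀ f : IrrCharacter ↥(Cfsg.Sz F m) → ℤ, (∀ χ ∈ cusp c, 0 ≤ f χ) → (∀ χ ∈ Fam, f χ = f χ0) →
      (Fam.card : ℤ) * f χ0 ≤ ∑ χ ∈ cusp c, f χ := by
    intro f h0 hc
    refine le_trans (le_of_eq ?_) (Finset.sum_le_sum_of_subset_of_nonneg hsub fun χ hχ _ => h0 χ hχ)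
    rw [Finset.sum_congr rfl hc, Finset.sum_const, nsmul_eq_mul]
  have bA : (Fam.card : ℤ) * a χ0 ^ 2 ≤ ((2 : ℤ) ^ m) ^ 2 := hS ▸ hle (fun χ => a χ ^ 2)
    (fun _ _ => sq_nonneg _) (fun χ hχ => by rw [(hval χ hχ).1])
  have bK : (Fam.card : ℤ) * k χ0 ^ 2 ≤ 2 := hK ▸ hle (fun χ => k χ ^ 2)
    (fun _ _ => sq_nonneg _) (fun χ hχ => by rw [(hval χ hχ).2.1])
  have bZ : (Fam.card : ℤ) * (2 * (2 ^ m) ^ 2 * a χ0 - e χ0) ^ 2 ≤ 4 * (2 ^ m) ^ 4 - (2 ^ m) ^ 2 :=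
    hZ ▸ hle (fun χ => (2 * (2 ^ m) ^ 2 * a χ - e χ) ^ 2) (fun _ _ => sq_nonneg _)
      (fun χ hχ => by rw [(hval χ hχ).1, (hval χ hχ).2.2])
  have hsplit : ∑ χ ∈ cusp c, n χ ^ 2 + 2 = ∑ χ, n χ ^ 2 := by
    rw [← Finset.sum_filter_add_sum_filter_not Finset.univ (fun χ => χ ∈ cusp c),
      show Finset.univ.filter (fun χ => χ ∈ cusp c) = cusp c by ext; simp]
    congr 1
    have h := noncusp_sum_sq c g hg
    rw [Finset.sum_congr rfl fun χ hχ => show χ.1 g ^ 2 = ((n χ ^ 2 : ℤ) : ℂ) by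
      rw [(hout χ fun hF => (Finset.mem_filter.1 hχ).2 (hsub hF)).1 g (mem_cz_self g) (isFree_ne_one hg)]
      push_cast; rfl] at h
    exact_mod_cast h.symm
  have hcusp : ∑ χ ∈ cusp c \ Fam, n χ ^ 2 + (Fam.card : ℤ) * n0 ^ 2 - 2 * ε * n0 = 2 := by
    have e1 := Finset.sum_sdiff (f := fun χ => n χ ^ 2) hsub
    rw [show ∑ χ ∈ Fam, n χ ^ 2 = (Fam.card : ℤ) * n0 ^ 2 by
      rw [Finset.sum_congr rfl fun χ hχ => by rw [hnF χ hχ], Finset.sum_const, nsmul_eq_mul]] at e1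
    linarith
  have hnn : 0 ≤ ∑ χ ∈ cusp c \ Fam, n χ ^ 2 := Finset.sum_nonneg fun χ _ => sq_nonneg _
  obtain ⟨k1, hk1⟩ := (hin χ0 hχ0).2
  have v0 := hv χ0 (hsub hχ0)
  have hq : (Fintype.card F : ℤ) = 2 * (2 ^ m) ^ 2 := by rw [card_eq_two_sq c]; push_cast; rfl
  have hdeg : ∀ χ ∈ cusp c, ∀ z : ℤ, χ.1 1 = (z : ℂ) → (2 * (2 ^ m) ^ 2 - 1) * e χ = z := by
    intro χ hχ z hz
    rw [(hv χ hχ).one] at hz
    rw [← hq]
    exact_mod_cast hz
  have hmod : (Nat.card (cz g) : ℤ) ∣ (2 * (2 ^ m) ^ 2 - 1) * e χ0 - (n0 + 4 * ε) :=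
    ⟨k1, by rw [hdeg χ0 (hsub hχ0) _ hk1]; ring⟩
  obtain ⟨ha1, hn00, he1, he2⟩ := fam_numeric hp hε (by exact_mod_cast hcard) v0.a_nonneg (by linarith) bA v0.cong
    (UnipVal.e_pos c v0) bZ hmod
    (hN.imp (fun h => ⟨h, rfl⟩) fun ⟨h, h2⟩ => ⟨h, by linarith [hp4 h2]⟩)
  refine ⟨Fam, hsub, hcard, fun χ hχ => ?_, fun χ hχ hF => ?_⟩
  · obtain ⟨e1, e2, e3⟩ := hval χ hχ
    refine ⟨e1.trans ha1, ?_, fun h => e3 ▸ he1 h, fun h => e3 ▸ he2 h, ?_⟩
    · rw [e2]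
      by_contra hne
      have h1 : 1 ≤ k χ0 ^ 2 := by
        have := sq_pos_of_ne_zero hne
        omega
      have : (3 : ℤ) ≤ Fam.card := by exact_mod_cast hL
      nlinarith
    · have := (hin χ hχ).1 g (mem_cz_self g) (isFree_ne_one hg)
      rwa [hn00, Int.cast_zero, sub_zero] at this
  · obtain ⟨k2, hk2⟩ := (hout χ hF).2
    refine ⟨n χ, (hout χ hF).1 g (mem_cz_self g) (isFree_ne_one hg),
      ⟨k2, by rw [hdeg χ hχ _ hk2]; ring⟩, ?_⟩
    have := Finset.single_le_sum (fun χ _ => sq_nonneg (n χ)) (Finset.mem_sdiff.2 ⟨hχ, hF⟩)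
    rw [hn00] at hcusp
    linarith

/-- integrality on a torus of order five -/
theorem five_int {g : ↥(Cfsg.Sz F m)} (hg : IsFree g) (h5 : Nat.card (cz g) = 5) (χ : IrrCharacter ↥(Cfsg.Sz F m)) :
    ∃ n d : ℤ, χ.1 g = n ∧ χ.1 1 = d ∧ (5 : ℤ) ∣ d - n := by
  classical
  haveI : Fintype ↥(cz g) := Fintype.ofFinite _
  haveI : Fintype ↥(Subgroup.normalizer (cz g : Set ↥(Cfsg.Sz F m))) := Fintype.ofFinite _
  have hA := torus_hyp c hg
  have h := hA.card_conj (mem_cz_self g) (isFree_ne_one hg) fun _ => (1 : ℂ)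
  rw [Finset.sum_const, Finset.card_univ, ← Nat.card_eq_fintype_card, hA.card_nor, h5, nsmul_eq_mul, mul_one,
    Finset.sum_boole] at h
  have h4 : (Finset.univ.filter fun b : ↥(cz g) => IsConj g b).card = 4 := by
    have h' : ((5 * 4 : ℕ) : ℂ) = ((5 * (Finset.univ.filter fun b : ↥(cz g) => IsConj g b).card : ℕ) : ℂ) := by
      push_cast at h ⊢
      linear_combination h
    have := Nat.cast_injective h'
    omega
  have hall : (Finset.univ.filter fun b : ↥(cz g) => IsConj g b) = Finset.univ.erase 1 := by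
    apply Finset.eq_of_subset_of_card_le
    · intro b hb
      rw [Finset.mem_erase]
      refine ⟨fun e => isFree_ne_one hg ?_, Finset.mem_univ _⟩
      have := (Finset.mem_filter.1 hb).2
      rw [e] at this
      exact isConj_one_left.1 this
    · rw [h4, Finset.card_erase_of_mem (Finset.mem_univ _), Finset.card_univ, ← Nat.card_eq_fintype_card, h5]
  obtain ⟨m1, hm1⟩ := mult_nat χ (1 : ↥(cz g) →* ℂˣ)
  simp only [mult, MonoidHom.one_apply, Units.val_one, map_one, mul_one, h5] at hm1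
  rw [← Finset.add_sum_erase _ _ (Finset.mem_univ (1 : ↥(cz g)))] at hm1
  have hsum : ∑ b ∈ (Finset.univ : Finset ↥(cz g)).erase 1, χ.1 (b : ↥(Cfsg.Sz F m)) =
      ∑ _b ∈ (Finset.univ : Finset ↥(cz g)).erase 1, χ.1 g := by
    refine Finset.sum_congr rfl fun b hb => ?_
    rw [← hall, Finset.mem_filter] at hb
    obtain ⟨k, hk⟩ := isConj_iff.1 hb.2
    rw [← hk, Char.isClassFunction_of_isIrr χ.2]
  rw [hsum] at hm1
  rw [Finset.sum_const, Finset.card_erase_of_mem (Finset.mem_univ _), Finset.card_univ,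
    ← Nat.card_eq_fintype_card, h5, nsmul_eq_mul, OneMemClass.coe_one] at hm1
  obtain ⟨d, hd⟩ := Char.exists_natDegree (Char.isCharacter_of_isIrr χ.2)
  rw [hd] at hm1
  have hval : χ.1 g = (((5 * (m1 : ℤ) - d : ℤ) : ℚ) / 4 : ℚ) := by
    push_cast at hm1 ⊢
    linear_combination (5 / 4 : ℂ) * hm1
  obtain ⟨n, hn⟩ := Char.exists_int_of_isIntegral (hval ▸ Char.char_isIntegral (Char.isCharacter_of_isIrr χ.2) g)
  refine ⟨n, d, by rw [hval, hn]; simp, by rw [hd]; simp, ?_⟩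
  have e : ((4 * n : ℤ) : ℚ) = ((5 * (m1 : ℤ) - d : ℤ) : ℚ) := by
    push_cast
    push_cast at hn
    linarith
  have := Int.cast_injective e
  omega

end Cfsg.Agent.Lib.SuzChar
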