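import Cfsg.Agent.Lib.Suz.Partition
import Cfsg.Agent.Lib.Char.Induced
import Cfsg.Agent.Lib.Char.Linear
import Cfsg.Agent.Lib.Char.Orthogonality
import Cfsg.Agent.Lib.Char.Integral
import Mathlib.GroupTheory.FiniteAbelian.Duality
import Mathlib.RingTheory.RootsOfUnity.AlgebraicallyClosed
import Mathlib.Analysis.Complex.Polynomial.Basic

/-! The principal series of the Suzuki groups. -/

set_option autoImplicit false
set_option linter.style.haveILetI false

namespace Cfsg.Agent.Lib.SuzChar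

open Cfsg Cfsg.Agent.Lib.Suz Cfsg.Agent.Lib
open scoped ComplexConjugate

universe u

variable {F : Type u} [Field F] [Fintype F] [CharP F 2] {m : ℕ} (c : Ctx F m)

/-- the Borel subgroup -/
abbrev bor : Subgroup ↥(Cfsg.Sz F m) := MulAction.stabilizer ↥(Cfsg.Sz F m) (pt (F := F) m none)

include c

theorem uG_tHom_mem (a b : F) (h : Fˣ) : uG c a b * tHom c h ∈ bor (F := F) (m := m) :=
  (fix_inf_iff c _).2 ⟨a, b, h, rfl⟩

theorem exists_proj :
    ∃ π : ↥(bor (F := F) (m := m)) →* Fˣ, ∀ a b h, π ⟨uG c a b * tHom c h, uG_tHom_mem c a b h⟩ = h := by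
  have hex : ∀ x : ↥(bor (F := F) (m := m)), ∃ a b h, x.1 = uG c a b * tHom c h :=
    fun x => (fix_inf_iff c x.1).1 x.2
  choose A B H hH using hex
  have key : ∀ a b h (hx : uG c a b * tHom c h ∈ bor (F := F) (m := m)), H ⟨_, hx⟩ = h := fun a b h hx =>
    ((uG_tHom_inj c (hH ⟨_, hx⟩)).2.2).symm
  refine ⟨MonoidHom.mk' H fun x y => ?_, fun a b h => key a b h _⟩
  have e : (x * y).1 = uG c (A x + th F m (H x) * A y)
      (B x + (H x : F) ^ 2 * th F m (H x) * B y + th F m (H x) * A y * th F m (A x)) * tHom c (H x * H y) := by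
    rw [Subgroup.coe_mul, hH x, hH y, map_mul, mul_assoc, ← mul_assoc (tHom c (H x)), tHom_mul_uG,
      ← mul_assoc, ← mul_assoc, uG_mul, mul_assoc]
  have h2 := hH (x * y)
  rw [e] at h2
  exact ((uG_tHom_inj c h2).2.2).symm

/-- the torus component of an element of the Borel subgroup -/
noncomputable def proj : ↥(bor (F := F) (m := m)) →* Fˣ := (exists_proj c).choose

theorem proj_apply (a b : F) (h : Fˣ) (hx : uG c a b * tHom c h ∈ bor (F := F) (m := m)) :
    proj c ⟨_, hx⟩ = h :=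
  (exists_proj c).choose_spec a b h

theorem proj_uG {x : ↥(bor (F := F) (m := m))} (hx : x.1 ∈ uSub c) : proj c x = 1 := by
  obtain ⟨a, b, e⟩ := hx
  have e' : x.1 = uG c a b * tHom c 1 := by rw [e, map_one, mul_one]
  rw [show x = ⟨_, uG_tHom_mem c a b 1⟩ from Subtype.ext e', proj_apply]

theorem proj_tHom (h : Fˣ) (hx : tHom c h ∈ bor (F := F) (m := m)) : proj c ⟨_, hx⟩ = h := by
  have e : tHom c h = uG c 0 0 * tHom c h := by rw [uG_zero, one_mul]
  rw [show (⟨_, hx⟩ : ↥(bor (F := F) (m := m))) = ⟨_, uG_tHom_mem c 0 0 h⟩ from Subtype.ext e, proj_apply]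

theorem isConj_tHom (a b : F) {h : Fˣ} (h1 : h ≠ 1) : IsConj (uG c a b * tHom c h) (tHom c h) := by
  obtain ⟨n1, n2⟩ := sq_mul_theta_ne c h h1
  have d1 : 1 + th F m h ≠ 0 := fun e => n1 (by
    have := eq_neg_of_add_eq_zero_right e
    rwa [CharTwo.neg_eq] at this)
  have d2 : 1 + (h : F) ^ 2 * th F m h ≠ 0 := fun e => n2 (by
    have := eq_neg_of_add_eq_zero_right e
    rwa [CharTwo.neg_eq] at this)
  set x := a / (1 + th F m h) with hx
  set k := x * th F m x + (th F m h * x) * th F m x with hk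
  set y := (b + th F m h * x * th F m x + (h : F) ^ 2 * th F m h * (x * th F m x)) / (1 + (h : F) ^ 2 * th F m h)
  refine (isConj_iff.2 ⟨uG c x y, ?_⟩).symm
  rw [uG_inv, mul_assoc, tHom_mul_uG, ← mul_assoc, uG_mul]
  congr 1
  have ea : x + th F m h * x = a := by rw [hx]; field_simp
  have eb : y * (1 + (h : F) ^ 2 * th F m h) =
      b + th F m h * x * th F m x + (h : F) ^ 2 * th F m h * (x * th F m x) := div_mul_cancel₀ _ d2
  rw [ea]
  congr 1
  grind

section Count

theorem card_bor : Nat.card ↥(bor (F := F) (m := m)) = Fintype.card F ^ 2 * (Fintype.card F - 1) :=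
  card_stab c _

/-- the Borel subgroup as a product set -/
noncomputable def borEquiv : (F × F) × Fˣ ≃ ↥(bor (F := F) (m := m)) :=
  Equiv.ofBijective (fun p => ⟨uG c p.1.1 p.1.2 * tHom c p.2, uG_tHom_mem c _ _ _⟩) (by
    constructor
    · rintro ⟨⟨a, b⟩, h⟩ ⟨⟨a', b'⟩, h'⟩ hh
      obtain ⟨rfl, rfl, rfl⟩ := uG_tHom_inj c (congrArg Subtype.val hh)
      rfl
    · rintro ⟨g, hg⟩
      obtain ⟨a, b, h, rfl⟩ := (fix_inf_iff c g).1 hg
      exact ⟨((a, b), h), rfl⟩)

end Count

variable [DecidableEq F] [Fintype ↥(Cfsg.Sz F m)]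

/-- the principal series -/
noncomputable def prin (α : Fˣ →* ℂˣ) : ↥(Cfsg.Sz F m) → ℂ :=
  indFun (bor (F := F) (m := m)) fun x => (α (proj c x) : ℂ)

theorem prin_isCharacter (α : Fˣ →* ℂˣ) : IsCharacter ↥(Cfsg.Sz F m) (prin c α) :=
  Char.isCharacter_indFun _ (Char.isCharacter_of_isIrr (Char.isIrrCharacter_linear (α.comp (proj c))))

theorem prin_conj (α : Fˣ →* ℂˣ) : IsClassFunction ↥(Cfsg.Sz F m) (prin c α) :=
  Char.isClassFunction_indFun _ _

theorem prin_one (α : Fˣ →* ℂˣ) : prin c α 1 = (Fintype.card F : ℂ) ^ 2 + 1 := by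
  haveI := pretrans c
  rw [prin, Char.indFun_one, map_one, map_one, Units.val_one, mul_one,
    MulAction.index_stabilizer_of_transitive, card_Om]
  push_cast
  rfl

theorem extend_zero {g : ↥(Cfsg.Sz F m)} (f : ↥(bor (F := F) (m := m)) → ℂ) (hg : g ∉ bor (F := F) (m := m)) :
    extendByZero (bor (F := F) (m := m)) f g = 0 :=
  Char.extendByZero_not_mem _ f hg

theorem prin_free (α : Fˣ →* ℂˣ) {g : ↥(Cfsg.Sz F m)} (hg : IsFree g) : prin c α g = 0 := by
  rw [prin, indFun, Finset.sum_eq_zero, mul_zero]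
  intro x _
  refine extend_zero c _ fun hx => hg (x • pt (F := F) m none) ?_
  rw [MulAction.mem_stabilizer_iff, mul_smul, mul_smul, inv_smul_eq_iff] at hx
  exact hx

theorem prin_uG (α : Fˣ →* ℂˣ) {u : ↥(Cfsg.Sz F m)} (hu : u ∈ uSub c) (h1 : u ≠ 1) : prin c α u = 1 := by
  classical
  obtain ⟨a, b, rfl⟩ := hu
  have key : ∀ x : ↥(Cfsg.Sz F m), extendByZero (bor (F := F) (m := m)) (fun x => (α (proj c x) : ℂ))
      (x⁻¹ * uG c a b * x) = if x ∈ bor (F := F) (m := m) then 1 else 0 := by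
    intro x
    by_cases hx : x ∈ bor (F := F) (m := m)
    · rw [if_pos hx]
      have hub : uG c a b ∈ bor (F := F) (m := m) := uG_smul_inf c a b
      have hm : x⁻¹ * uG c a b * x ∈ bor (F := F) (m := m) := mul_mem (mul_mem (inv_mem hx) hub) hx
      rw [Char.extendByZero_mem _ _ hm]
      have e : (⟨_, hm⟩ : ↥(bor (F := F) (m := m))) =
          (⟨x, hx⟩ : ↥(bor (F := F) (m := m)))⁻¹ * ⟨_, hub⟩ * ⟨x, hx⟩ := rfl
      rw [e]
      simp only [map_mul, map_inv]
      rw [proj_uG c (x := ⟨_, hub⟩) (uG_mem_uSub c a b), map_one, mul_one, inv_mul_cancel, Units.val_one]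
    · rw [if_neg hx]
      refine extend_zero c _ fun hm => ?_
      rw [MulAction.mem_stabilizer_iff, mul_smul, mul_smul, inv_smul_eq_iff] at hm
      have := uG_fix c hm hx
      exact h1 (by rw [this.1, this.2, uG_zero])
  rw [prin, indFun]
  simp only [key, ← Finset.sum_filter, Finset.sum_const, nsmul_eq_mul, mul_one]
  rw [← Fintype.card_subtype, ← Nat.card_eq_fintype_card]
  exact inv_mul_cancel₀ (Char.card_ne_zero_complex _)

theorem prin_tHom (α : Fˣ →* ℂˣ) {h : Fˣ} (h1 : h ≠ 1) :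
    prin c α (tHom c h) = (α h : ℂ) + (α h : ℂ)⁻¹ := by
  classical
  set B := bor (F := F) (m := m)
  have hT : ∀ k, tHom c k ∈ B := fun k => tHom_smul_inf c k
  have hW : wG c ∉ B := fun e => by
    rw [MulAction.mem_stabilizer_iff, wG_smul_inf] at e
    simpa using (pt_bij m).1 e
  have key : ∀ x : ↥(Cfsg.Sz F m), extendByZero B (fun x => (α (proj c x) : ℂ)) (x⁻¹ * tHom c h * x) =
      (if x ∈ B then (α h : ℂ) else 0) + (if wG c * x ∈ B then (α h : ℂ)⁻¹ else 0) := by
    intro x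
    have conjval : ∀ y : ↥B, ∀ k : Fˣ, extendByZero B (fun x => (α (proj c x) : ℂ))
        ((y : ↥(Cfsg.Sz F m))⁻¹ * tHom c k * y) = (α k : ℂ) := by
      intro y k
      rw [Char.extendByZero_mem _ _ (mul_mem (mul_mem (inv_mem y.2) (hT k)) y.2)]
      have e : (⟨_, mul_mem (mul_mem (inv_mem y.2) (hT k)) y.2⟩ : ↥B) = y⁻¹ * ⟨_, hT k⟩ * y := rfl
      rw [e]
      simp only [map_mul, map_inv]
      rw [proj_tHom, mul_comm _ (α k), inv_mul_cancel_right]
    by_cases hx : x ∈ B
    · have hwx : wG c * x ∉ B := fun e => hW (by simpa using mul_mem e (inv_mem hx))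
      rw [if_pos hx, if_neg hwx, add_zero]
      exact conjval ⟨x, hx⟩ h
    by_cases hwx : wG c * x ∈ B
    · rw [if_neg hx, if_pos hwx, zero_add]
      have := conjval ⟨_, hwx⟩ h⁻¹
      rw [← wG_conj_tHom, map_inv, Units.val_inv_eq_inv_val] at this
      simp only [mul_inv_rev, wG_inv] at this
      rw [← this]
      congr 1
      have e := wG_mul_self c
      calc x⁻¹ * tHom c h * x = x⁻¹ * (wG c * wG c) * tHom c h * ((wG c * wG c) * x) := by
            rw [e, mul_one, one_mul]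
        _ = _ := by group
    · rw [if_neg hx, if_neg hwx, add_zero]
      refine extend_zero c _ fun hm => ?_
      rw [MulAction.mem_stabilizer_iff, mul_smul, mul_smul, inv_smul_eq_iff] at hm
      rcases tHom_fix c h1 hm with e | e
      · exact hx e
      · refine hwx ?_
        show (wG c * x) • pt (F := F) m none = pt m none
        rw [mul_smul, e, wG_smul_zero]
  rw [prin, indFun]
  rw [Finset.sum_congr rfl fun x _ => key x, Finset.sum_add_distrib, mul_add]
  have hsum : ∀ (p : ↥(Cfsg.Sz F m) → Prop) [DecidablePred p] (z : ℂ),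
      Nat.card {x // p x} = Nat.card ↥B → (Nat.card ↥B : ℂ)⁻¹ * ∑ x, (if p x then z else 0) = z := by
    intro p _ z hp
    rw [← Finset.sum_filter, Finset.sum_const, nsmul_eq_mul, ← Fintype.card_subtype,
      ← Nat.card_eq_fintype_card, hp, ← mul_assoc, inv_mul_cancel₀ (Char.card_ne_zero_complex _), one_mul]
  rw [hsum (· ∈ B) _ rfl, hsum (wG c * · ∈ B) _ (Nat.card_congr (Equiv.subtypeEquiv (Equiv.mulLeft (wG c))
    fun x => Iff.rfl))]

/-- inner products with the principal series, as a sum over the torus -/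
theorem classInner_prin (α : Fˣ →* ℂˣ) {χ : ↥(Cfsg.Sz F m) → ℂ} (hχ : IsClassFunction ↥(Cfsg.Sz F m) χ) :
    (Nat.card ↥(bor (F := F) (m := m)) : ℂ) * classInner (prin c α) χ =
      ∑ h : Fˣ, (α h : ℂ) * ∑ p : F × F, conj (χ (uG c p.1 p.2 * tHom c h)) := by
  classical
  haveI : Fintype ↥(bor (F := F) (m := m)) := Fintype.ofFinite _
  rw [prin, Char.classInner_indFun _ _ hχ, classInner, ← mul_assoc,
    mul_inv_cancel₀ (Char.card_ne_zero_complex _), one_mul, ← (borEquiv c).sum_comp, Fintype.sum_prod_type,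
    Finset.sum_comm]
  refine Finset.sum_congr rfl fun h _ => ?_
  rw [Finset.mul_sum]
  refine Finset.sum_congr rfl fun p _ => ?_
  show (α (proj c ⟨uG c p.1 p.2 * tHom c h, uG_tHom_mem c _ _ h⟩) : ℂ) * _ = _
  rw [proj_apply]
  rfl

theorem sum_torus_shift {χ : ↥(Cfsg.Sz F m) → ℂ} (hχ : IsClassFunction ↥(Cfsg.Sz F m) χ) {h : Fˣ} (h1 : h ≠ 1) :
    ∑ p : F × F, χ (uG c p.1 p.2 * tHom c h) = (Fintype.card F : ℂ) ^ 2 * χ (tHom c h) := by
  have e : ∀ p : F × F, χ (uG c p.1 p.2 * tHom c h) = χ (tHom c h) := fun p => by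
    obtain ⟨g, hg⟩ := isConj_iff.1 (isConj_tHom c p.1 p.2 h1)
    conv_rhs => rw [← hg, hχ]
  simp only [e, Finset.sum_const, Finset.card_univ, Fintype.card_prod, nsmul_eq_mul, Nat.cast_mul]
  ring

end Cfsg.Agent.Lib.SuzChar
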