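import Cfsg.Agent.Lib.SuzChar.FamVals

/-! The values of the cuspidal characters of the Suzuki group. -/

set_option autoImplicit false
set_option linter.style.haveILetI false
set_option linter.unusedSectionVars false

namespace Cfsg.Agent.Lib.SuzChar

open Cfsg Cfsg.Agent.Lib.Suz Cfsg.Agent.Lib
open scoped ComplexConjugate
open Complex (I)

universe u

variable {F : Type u} [Field F] [Fintype F] [CharP F 2] {m : ℕ} (c : Ctx F m)
variable [DecidableEq F] [Fintype ↥(Cfsg.Sz F m)]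

include c

/-- the two large families and the two small characters -/
structure Table (F1 F2 W : Finset (IrrCharacter ↥(Cfsg.Sz F m))) : Prop where
  cover : ∀ f : IrrCharacter ↥(Cfsg.Sz F m) → ℂ,
    ∑ χ ∈ cusp c, f χ = ∑ χ ∈ F1, f χ + ∑ χ ∈ F2, f χ + ∑ χ ∈ W, f χ
  mem : ∀ χ, χ ∈ cusp c ↔ χ ∈ F1 ∨ χ ∈ F2 ∨ χ ∈ W
  card1 : 2 * (F1.card : ℤ) = 2 ^ m * (2 ^ m + 1)
  card2 : 2 * (F2.card : ℤ) = 2 ^ m * (2 ^ m - 1)
  cardW : W.card = 2
  one1 : ∀ χ ∈ F1, χ.1 1 = (((2 * (2 ^ m) ^ 2 - 1) * (2 * (2 ^ m) ^ 2 - 2 * 2 ^ m + 1) : ℤ) : ℂ)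
  one2 : ∀ χ ∈ F2, χ.1 1 = (((2 * (2 ^ m) ^ 2 - 1) * (2 * (2 ^ m) ^ 2 + 2 * 2 ^ m + 1) : ℤ) : ℂ)
  oneW : ∀ χ ∈ W, χ.1 1 = (((2 * (2 ^ m) ^ 2 - 1) * 2 ^ m : ℤ) : ℂ)
  z1 : ∀ χ ∈ F1, χ.1 (uG c 0 1) = ((2 * 2 ^ m - 1 : ℤ) : ℂ)
  z2 : ∀ χ ∈ F2, χ.1 (uG c 0 1) = ((-(2 * 2 ^ m + 1) : ℤ) : ℂ)
  zW : ∀ χ ∈ W, χ.1 (uG c 0 1) = ((-(2 ^ m) : ℤ) : ℂ)
  f12 : ∀ χ, χ ∈ F1 ∨ χ ∈ F2 → χ.1 (uG c 1 0) = -1
  fW : ∀ χ ∈ W, ∃ k : ℤ, k ^ 2 = 1 ∧ χ.1 (uG c 1 0) = ((2 ^ m * k : ℤ) : ℂ) * I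
  fWsum : ∑ χ ∈ W, χ.1 (uG c 1 0) = 0
  free1 : ∀ g, IsFree g → (Nat.card (cz g) : ℤ) = 2 * (2 ^ m) ^ 2 + 2 * 2 ^ m + 1 →
    (∀ χ ∈ F2, χ.1 g = 0) ∧ (∀ χ ∈ W, χ.1 g = 1) ∧ (∀ χ ∈ F1, ‖χ.1 g‖ ≤ 4) ∧
      ∑ χ ∈ F1, ‖χ.1 g‖ ^ 2 = 2 * (2 ^ m) ^ 2 + 2 * 2 ^ m - 3
  free2 : ∀ g, IsFree g → (Nat.card (cz g) : ℤ) = 2 * (2 ^ m) ^ 2 - 2 * 2 ^ m + 1 →
    (∀ χ ∈ F1, χ.1 g = 0) ∧ (∀ χ ∈ F2, ‖χ.1 g‖ ≤ 4) ∧
      ∑ χ ∈ F2, ‖χ.1 g‖ ^ 2 = 2 * (2 ^ m) ^ 2 - 2 * 2 ^ m - 3 ∧ ∀ χ ∈ W, χ.1 g = -1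

theorem p_odd_ne {N a : ℤ} (hN : ∃ j, N = 2 ^ m * j + 1) (hd : (2 : ℤ) ^ m ∣ N - a) (ha : 0 ≤ a) : 1 ≤ a := by
  obtain ⟨j, rfl⟩ := hN
  by_contra h
  rw [show a = 0 by omega, sub_zero] at hd
  have := Int.le_of_dvd one_pos ((dvd_add_right (dvd_mul_right _ j)).1 hd)
  linarith [p_two_le c]

theorem exists_table : ∃ F1 F2 W, Table c F1 F2 W := by
  classical
  obtain ⟨a, k, e, hv⟩ := exists_unipVal c
  obtain ⟨hS, hK, hT, hX, hE, -, hY⟩ := unip_sums c hv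
  set p : ℤ := 2 ^ m with hpdef
  have hp : 2 ≤ p := p_two_le c
  obtain ⟨x, y, hx, hy, -, -, -, hNx, hNy⟩ := exists_tori c
  have hm1 : 1 ≤ m := c.hm
  have hNx' : (Nat.card (cz x) : ℤ) = 2 * p ^ 2 + 2 * p + 1 := by rw [hNx, hpdef]; push_cast; ring
  have hNy' : (Nat.card (cz y) : ℤ) = 2 * p ^ 2 - 2 * p + 1 := by
    rw [hNy, hpdef, Nat.cast_add, Nat.cast_sub (Nat.pow_le_pow_right two_pos (by omega))]
    push_cast; ring
  obtain ⟨Fx, hxsub, hxcard, hxin, -⟩ := fam_of_free c hv hx (Or.inl hNx')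
  have hxval : ∀ χ ∈ Fx, a χ = 1 ∧ k χ = 0 ∧ e χ = 2 * p ^ 2 - 2 * p + 1 := fun χ hχ =>
    ⟨(hxin χ hχ).1, (hxin χ hχ).2.1, (hxin χ hχ).2.2.1 hNx'⟩
  have hLx : 2 * (Fx.card : ℤ) = p * (p + 1) := by
    have h : (4 * (Fx.card : ℤ) + 1) = (Nat.card (cz x) : ℤ) := by exact_mod_cast hxcard
    linarith
  -- the family belonging to `y`
  obtain ⟨Fy, hysub, hdisj, hyval, hLy⟩ : ∃ Fy, Fy ⊆ cusp c ∧ Disjoint Fx Fy ∧
      (∀ χ ∈ Fy, a χ = 1 ∧ k χ = 0 ∧ e χ = 2 * p ^ 2 + 2 * p + 1) ∧ 2 * (Fy.card : ℤ) = p * (p - 1) := by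
    have hd : ∀ Fy : Finset (IrrCharacter ↥(Cfsg.Sz F m)),
        (∀ χ ∈ Fy, e χ = 2 * p ^ 2 + 2 * p + 1) → Disjoint Fx Fy := fun Fy h => by
      refine Finset.disjoint_left.2 fun χ h1 h2 => ?_
      have := (hxval χ h1).2.2.symm.trans (h χ h2)
      linarith
    rcases (show m = 1 ∨ 2 ≤ m by omega) with hm | hm
    · have hp2 : p = 2 := by rw [hpdef, hm]; norm_num
      have e1 : ∀ f : IrrCharacter ↥(Cfsg.Sz F m) → ℤ,
          ∑ χ ∈ cusp c, f χ = ∑ χ ∈ cusp c \ Fx, f χ + ∑ χ ∈ Fx, f χ := fun f =>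
        (Finset.sum_sdiff hxsub).symm
      have hc3 : (Fx.card : ℤ) = 3 := by rw [hp2] at hLx; omega
      have sS : ∑ χ ∈ Fx, a χ ^ 2 = 3 := by
        rw [Finset.sum_congr rfl fun χ hχ => show a χ ^ 2 = 1 by rw [(hxval χ hχ).1]; ring,
          Finset.sum_const, nsmul_one, hc3]
      have sT : ∑ χ ∈ Fx, a χ * k χ = 0 :=
        Finset.sum_eq_zero fun χ hχ => by rw [(hxval χ hχ).2.1]; ring
      have sX : ∑ χ ∈ Fx, a χ * e χ = 15 := by
        rw [Finset.sum_congr rfl fun χ hχ => show a χ * e χ = 5 by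
          rw [(hxval χ hχ).1, (hxval χ hχ).2.2, hp2]; norm_num, Finset.sum_const, nsmul_eq_mul, hc3]
        norm_num
      rw [e1, sS, hp2] at hS
      rw [e1, sT, add_zero] at hT
      rw [e1, sX, hp2] at hX
      obtain ⟨Z, hZ, hZa⟩ : ∃ Z ∈ cusp c \ Fx, a Z ≠ 0 := by
        by_contra h
        push Not at h
        rw [Finset.sum_eq_zero fun χ hχ => by rw [h χ hχ]; ring] at hS
        norm_num at hS
      have hZc := (Finset.mem_sdiff.1 hZ).1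
      have hnn : 0 ≤ ∑ χ ∈ (cusp c \ Fx).erase Z, a χ ^ 2 := Finset.sum_nonneg fun χ _ => sq_nonneg _
      rw [← Finset.add_sum_erase _ _ hZ] at hS hT hX
      have hZ1 : a Z = 1 := by
        have h0 := (hv Z hZc).a_nonneg
        by_contra h
        have : 2 ≤ a Z := by omega
        nlinarith
      have hrest : ∀ χ ∈ (cusp c \ Fx).erase Z, a χ = 0 := fun χ hχ => by
        have h0 : ∑ χ ∈ (cusp c \ Fx).erase Z, a χ ^ 2 = 0 := by rw [hZ1] at hS; linarith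
        exact pow_eq_zero_iff two_ne_zero |>.1
          ((Finset.sum_eq_zero_iff_of_nonneg fun χ _ => sq_nonneg (a χ)).1 h0 χ hχ)
      rw [Finset.sum_eq_zero fun χ hχ => by rw [hrest χ hχ]; ring, hZ1] at hT hX
      refine ⟨{Z}, by simpa using hZc, hd _ ?_, fun χ hχ => ?_, by rw [Finset.card_singleton, hp2]; norm_num⟩
      · intro χ hχ
        rw [Finset.mem_singleton.1 hχ, hp2]
        linarith
      · rw [Finset.mem_singleton.1 hχ, hp2]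
        exact ⟨hZ1, by linarith, by linarith⟩
    · obtain ⟨Fy, hsub, hcard, hin, -⟩ := fam_of_free c hv hy (Or.inr ⟨hNy', hm⟩)
      have hyval : ∀ χ ∈ Fy, a χ = 1 ∧ k χ = 0 ∧ e χ = 2 * p ^ 2 + 2 * p + 1 := fun χ hχ =>
        ⟨(hin χ hχ).1, (hin χ hχ).2.1, (hin χ hχ).2.2.2.1 hNy'⟩
      refine ⟨Fy, hsub, hd _ fun χ hχ => (hyval χ hχ).2.2, hyval, ?_⟩
      have h : (4 * (Fy.card : ℤ) + 1) = (Nat.card (cz y) : ℤ) := by exact_mod_cast hcard
      linarith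
  set W := cusp c \ (Fx ∪ Fy) with hW
  have hBsub : Fx ∪ Fy ⊆ cusp c := Finset.union_subset hxsub hysub
  have split : ∀ {M : Type} [AddCommMonoid M] (f : IrrCharacter ↥(Cfsg.Sz F m) → M),
      ∑ χ ∈ cusp c, f χ = ∑ χ ∈ Fx, f χ + ∑ χ ∈ Fy, f χ + ∑ χ ∈ W, f χ := fun f => by
    rw [← Finset.sum_union hdisj, ← Finset.sum_sdiff hBsub, add_comm]
  have cst : ∀ (S : Finset (IrrCharacter ↥(Cfsg.Sz F m))) (f : IrrCharacter ↥(Cfsg.Sz F m) → ℤ) (r : ℤ),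
      (∀ χ ∈ S, f χ = r) → 2 * ∑ χ ∈ S, f χ = 2 * (S.card : ℤ) * r := fun S f r h => by
    rw [Finset.sum_congr rfl h, Finset.sum_const, nsmul_eq_mul]; ring
  have hWa : ∀ χ ∈ W, a χ = 0 := fun χ hχ => by
    have h1 := cst Fx (fun χ => a χ ^ 2) 1 fun χ h => by rw [(hxval χ h).1]; ring
    have h2 := cst Fy (fun χ => a χ ^ 2) 1 fun χ h => by rw [(hyval χ h).1]; ring
    rw [split] at hS
    have h0 : ∑ χ ∈ W, a χ ^ 2 = 0 := by
      rw [hLx] at h1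
      rw [hLy] at h2
      linarith
    exact pow_eq_zero_iff two_ne_zero |>.1 ((Finset.sum_eq_zero_iff_of_nonneg fun χ _ => sq_nonneg (a χ)).1 h0 χ hχ)
  have hWp : ∀ χ ∈ W, p ≤ e χ := fun χ hχ => by
    have hc := (Finset.mem_sdiff.1 hχ).1
    refine Int.le_of_dvd (lt_of_lt_of_le one_pos (UnipVal.e_pos c (hv χ hc))) ?_
    have := (hv χ hc).cong
    rwa [hWa χ hχ, sub_zero] at this
  have hWe : ∑ χ ∈ W, e χ ^ 2 = 2 * p ^ 2 := by
    have h1 := cst Fx (fun χ => e χ ^ 2) _ fun χ h => by rw [(hxval χ h).2.2]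
    have h2 := cst Fy (fun χ => e χ ^ 2) _ fun χ h => by rw [(hyval χ h).2.2]
    rw [split] at hE
    rw [hLx] at h1
    rw [hLy] at h2
    linarith
  have hWk : ∑ χ ∈ W, k χ ^ 2 = 2 := by
    rw [split, Finset.sum_eq_zero fun χ h => by rw [(hxval χ h).2.1]; ring,
      Finset.sum_eq_zero fun χ h => by rw [(hyval χ h).2.1]; ring, add_zero, zero_add] at hK
    exact hK
  have hWy : ∑ χ ∈ W, k χ * e χ = 0 := by
    rw [split, Finset.sum_eq_zero fun χ h => by rw [(hxval χ h).2.1]; ring,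
      Finset.sum_eq_zero fun χ h => by rw [(hyval χ h).2.1]; ring, add_zero, zero_add] at hY
    exact hY
  have hWcard : W.card = 2 := by
    have h1 : (W.card : ℤ) * p ^ 2 ≤ 2 * p ^ 2 := by
      rw [← hWe, ← nsmul_eq_mul]
      exact Finset.card_nsmul_le_sum _ _ _ fun χ hχ => pow_le_pow_left₀ (by omega) (hWp χ hχ) 2
    have h2 : (W.card : ℤ) ≤ 2 := le_of_mul_le_mul_right h1 (by positivity)
    have h2' : W.card ≤ 2 := by exact_mod_cast h2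
    interval_cases hc : W.card
    · rw [Finset.card_eq_zero.1 hc] at hWk; simp at hWk
    · obtain ⟨χ, e⟩ := Finset.card_eq_one.1 hc
      rw [e, Finset.sum_singleton] at hWk
      clear hK hY hWy
      have : k χ ≤ 1 := by nlinarith
      have : -1 ≤ k χ := by nlinarith
      interval_cases k χ <;> norm_num at hWk
    · rfl
  obtain ⟨χ1, χ2, hne, hWeq⟩ := Finset.card_eq_two.1 hWcard
  have he : e χ1 = p ∧ e χ2 = p := by
    rw [hWeq, Finset.sum_pair hne] at hWe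
    have := hWp χ1 (by simp [hWeq])
    have := hWp χ2 (by simp [hWeq])
    constructor <;> nlinarith
  have hk : k χ2 = -k χ1 ∧ k χ1 ^ 2 = 1 := by
    rw [hWeq, Finset.sum_pair hne, he.1, he.2, ← add_mul] at hWy
    have h2 : k χ2 = -k χ1 := by
      have := (mul_eq_zero.1 hWy).resolve_right (by omega)
      linarith
    rw [hWeq, Finset.sum_pair hne, h2, neg_sq] at hWk
    exact ⟨h2, by linarith⟩
  have hWval : ∀ χ ∈ W, a χ = 0 ∧ e χ = p ∧ k χ ^ 2 = 1 := fun χ hχ => by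
    refine ⟨hWa χ hχ, ?_⟩
    rw [hWeq, Finset.mem_insert, Finset.mem_singleton] at hχ
    rcases hχ with rfl | rfl
    · exact ⟨he.1, hk.2⟩
    · exact ⟨he.2, by rw [hk.1, neg_sq, hk.2]⟩
  have hq : (Fintype.card F : ℂ) = ((2 * p ^ 2 : ℤ) : ℂ) := by
    rw [card_eq_two_sq c, hpdef]; push_cast; rfl
  have hmem : ∀ χ, χ ∈ cusp c ↔ χ ∈ Fx ∨ χ ∈ Fy ∨ χ ∈ W := fun χ => by
    simp only [hW, Finset.mem_sdiff, Finset.mem_union]
    have := @hxsub χ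
    have := @hysub χ
    tauto
  have hcol : ∀ g, IsFree g → ∑ χ ∈ cusp c, ‖χ.1 g‖ ^ 2 = (Nat.card (cz g) : ℝ) - 2 := fun g hg => by
    apply Complex.ofReal_injective
    push_cast
    rw [← col_free c g hg]
    exact Finset.sum_congr rfl fun χ _ => (Complex.mul_conj' _).symm
  have hsmall : ∀ {N n : ℤ}, N ∣ n → n ^ 2 ≤ 9 → 5 ≤ N → n = 0 := fun {N n} h h1 h2 =>
    Int.eq_zero_of_abs_lt_dvd h (abs_lt.2 ⟨by nlinarith, by nlinarith⟩)
  refine ⟨Fx, Fy, W, ⟨split, hmem, hLx, hLy, hWcard, ?_, ?_, ?_, ?_, ?_, ?_, ?_, ?_, ?_, ?_, ?_⟩⟩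
  · intro χ h; rw [(hv χ (hxsub h)).one, (hxval χ h).2.2, hq, hpdef]; push_cast; ring
  · intro χ h; rw [(hv χ (hysub h)).one, (hyval χ h).2.2, hq, hpdef]; push_cast; ring
  · intro χ h; rw [(hv χ ((hmem χ).2 (Or.inr (Or.inr h)))).one, (hWval χ h).2.1, hq, hpdef]; push_cast; ring
  · intro χ h; rw [(hv χ (hxsub h)).z, (hxval χ h).1, (hxval χ h).2.2, hq, hpdef]; push_cast; ring
  · intro χ h; rw [(hv χ (hysub h)).z, (hyval χ h).1, (hyval χ h).2.2, hq, hpdef]; push_cast; ring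
  · intro χ h
    rw [(hv χ ((hmem χ).2 (Or.inr (Or.inr h)))).z, (hWval χ h).1, (hWval χ h).2.1, hpdef]; push_cast; ring
  · intro χ h
    rcases h with h | h
    · rw [(hv χ (hxsub h)).f, (hxval χ h).1, (hxval χ h).2.1]; simp
    · rw [(hv χ (hysub h)).f, (hyval χ h).1, (hyval χ h).2.1]; simp
  · intro χ h
    refine ⟨k χ, (hWval χ h).2.2, ?_⟩
    rw [(hv χ ((hmem χ).2 (Or.inr (Or.inr h)))).f, (hWval χ h).1]; simp [hpdef]
  · rw [hWeq, Finset.sum_pair hne, (hv χ1 ((hmem χ1).2 (Or.inr (Or.inr (by simp [hWeq]))))).f,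
      (hv χ2 ((hmem χ2).2 (Or.inr (Or.inr (by simp [hWeq]))))).f, hk.1,
      hWa χ1 (by simp [hWeq]), hWa χ2 (by simp [hWeq])]
    push_cast; ring
  · intro g hg hN
    rw [← hpdef] at hN
    obtain ⟨Fam, hsub, hcard, hin, hout⟩ := fam_of_free c hv hg (Or.inl hN)
    have hFam : Fam = Fx := by
      refine Finset.eq_of_subset_of_card_le (fun χ hχ => ?_) ?_
      · have h1 := (hin χ hχ).2.2.1 hN
        rcases (hmem χ).1 (hsub hχ) with h | h | h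
        · exact h
        · have := (hyval χ h).2.2; linarith
        · have := (hWval χ h).2.1; nlinarith
      · have h : (4 * (Fam.card : ℤ) + 1) = (Nat.card (cz g) : ℤ) := by exact_mod_cast hcard
        have : (Fx.card : ℤ) ≤ Fam.card := by linarith
        exact_mod_cast this
    subst hFam
    have hY0 : ∀ χ ∈ Fy, χ.1 g = 0 := fun χ h => by
      obtain ⟨n, hn, hd, hb⟩ := hout χ (hysub h) (Finset.disjoint_right.1 hdisj h)
      rw [(hyval χ h).2.2, hN, dvd_sub_right (dvd_mul_left _ _)] at hd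
      rw [hn, hsmall hd (by linarith) (by nlinarith)]; simp
    have hW1 : ∀ χ ∈ W, χ.1 g = 1 := fun χ h => by
      obtain ⟨n, hn, hd, hb⟩ := hout χ ((hmem χ).2 (Or.inr (Or.inr h)))
        (fun h' => (Finset.mem_sdiff.1 h).2 (Finset.mem_union_left _ h'))
      rw [(hWval χ h).2.1, hN] at hd
      have h' := dvd_sub hd (Dvd.intro (p - 1) (by ring) :
        2 * p ^ 2 + 2 * p + 1 ∣ (2 * p ^ 2 - 1) * p - 1)
      rw [show (2 * p ^ 2 - 1) * p - n - ((2 * p ^ 2 - 1) * p - 1) = 1 - n by ring] at h'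
      have := hsmall h' (by nlinarith) (by nlinarith)
      rw [hn, show n = 1 by linarith]; simp
    refine ⟨hY0, hW1, fun χ h => (hin χ h).2.2.2.2, ?_⟩
    have h := hcol g hg
    have s0 : ∑ χ ∈ Fy, ‖χ.1 g‖ ^ 2 = 0 := Finset.sum_eq_zero fun χ h => by rw [hY0 χ h]; simp
    have sW : ∑ χ ∈ W, ‖χ.1 g‖ ^ 2 = 2 := by
      rw [Finset.sum_congr rfl fun χ h => show ‖χ.1 g‖ ^ 2 = 1 by rw [hW1 χ h]; simp,
        Finset.sum_const, hWcard, nsmul_one]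
      norm_num
    rw [split, s0, sW] at h
    have hN' : (Nat.card (cz g) : ℝ) = ((2 * p ^ 2 + 2 * p + 1 : ℤ) : ℝ) := by exact_mod_cast hN
    rw [hN', hpdef] at h
    push_cast at h ⊢
    linarith
  · intro g hg hN
    rw [← hpdef] at hN
    have key : (∀ χ ∈ Fx, χ.1 g = 0) ∧ (∀ χ ∈ Fy, ‖χ.1 g‖ ≤ 4) ∧ ∀ χ ∈ W, χ.1 g = -1 := by
      have hdN : 2 * p ^ 2 - 2 * p + 1 ∣ (2 * p ^ 2 - 1) * p + 1 := Dvd.intro (p + 1) (by ring)
      rcases (show m = 1 ∨ 2 ≤ m by omega) with hm | hm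
      · have hp2 : p = 2 := by rw [hpdef, hm]; norm_num
        have h5 : Nat.card (cz g) = 5 := by rw [hp2] at hN; omega
        have hb : ∀ χ ∈ cusp c, ‖χ.1 g‖ ^ 2 ≤ 3 := fun χ hχ => by
          refine le_trans (Finset.single_le_sum (f := fun χ : IrrCharacter ↥(Cfsg.Sz F m) => ‖χ.1 g‖ ^ 2) (fun χ _ => sq_nonneg _) hχ) (le_of_eq ?_)
          rw [hcol g hg, h5]; norm_num
        have hint : ∀ χ ∈ cusp c, ∃ n : ℤ, χ.1 g = n ∧ n ^ 2 ≤ 3 ∧ 5 ∣ (2 * p ^ 2 - 1) * e χ - n := by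
          intro χ hχ
          obtain ⟨n, d, hn, hd, hdvd⟩ := five_int c hg h5 χ
          refine ⟨n, hn, ?_, ?_⟩
          · have := hb χ hχ
            rw [hn, Complex.norm_intCast, sq_abs] at this
            exact_mod_cast this
          · rw [(hv χ hχ).one, hq] at hd
            have hd' : (2 * p ^ 2 - 1) * e χ = d := by exact_mod_cast hd
            rwa [hd']
        refine ⟨fun χ h => ?_, fun χ h => ?_, fun χ h => ?_⟩
        · obtain ⟨n, hn, hn2, hd⟩ := hint χ (hxsub h)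
          rw [(hxval χ h).2.2, hp2] at hd
          have : -1 ≤ n ∧ n ≤ 1 := ⟨by nlinarith, by nlinarith⟩
          rw [hn, show n = 0 by omega]; simp
        · nlinarith [hb χ (hysub h), norm_nonneg (χ.1 g)]
        · obtain ⟨n, hn, hn2, hd⟩ := hint χ ((hmem χ).2 (Or.inr (Or.inr h)))
          rw [(hWval χ h).2.1, hp2] at hd
          have : -1 ≤ n ∧ n ≤ 1 := ⟨by nlinarith, by nlinarith⟩
          rw [hn, show n = -1 by omega]; simp
      · obtain ⟨Fam, hsub, hcard, hin, hout⟩ := fam_of_free c hv hg (Or.inr ⟨hN, hm⟩)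
        have hp4 : 4 ≤ p := le_trans (by norm_num) (pow_le_pow_right₀ (by norm_num) hm)
        have hFam : Fam = Fy := by
          refine Finset.eq_of_subset_of_card_le (fun χ hχ => ?_) ?_
          · have h1 := (hin χ hχ).2.2.2.1 hN
            rcases (hmem χ).1 (hsub hχ) with h | h | h
            · have := (hxval χ h).2.2; linarith
            · exact h
            · have := (hWval χ h).2.1; nlinarith
          · have h : (4 * (Fam.card : ℤ) + 1) = (Nat.card (cz g) : ℤ) := by exact_mod_cast hcard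
            have : (Fy.card : ℤ) ≤ Fam.card := by linarith
            exact_mod_cast this
        subst hFam
        refine ⟨fun χ h => ?_, fun χ h => (hin χ h).2.2.2.2, fun χ h => ?_⟩
        · obtain ⟨n, hn, hd, hb⟩ := hout χ (hxsub h) (Finset.disjoint_left.1 hdisj h)
          rw [(hxval χ h).2.2, hN, dvd_sub_right (dvd_mul_left _ _)] at hd
          rw [hn, hsmall hd (by linarith) (by nlinarith)]; simp
        · obtain ⟨n, hn, hd, hb⟩ := hout χ ((hmem χ).2 (Or.inr (Or.inr h)))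
            (fun h' => (Finset.mem_sdiff.1 h).2 (Finset.mem_union_right _ h'))
          rw [(hWval χ h).2.1, hN] at hd
          have h' := dvd_sub hd hdN
          rw [show (2 * p ^ 2 - 1) * p - n - ((2 * p ^ 2 - 1) * p + 1) = -(n + 1) by ring, dvd_neg] at h'
          have := hsmall h' (by nlinarith) (by nlinarith)
          rw [hn, show n = -1 by linarith]; simp
    obtain ⟨h1, h2, h3⟩ := key
    refine ⟨h1, h2, ?_, h3⟩
    have h := hcol g hg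
    have s0 : ∑ χ ∈ Fx, ‖χ.1 g‖ ^ 2 = 0 := Finset.sum_eq_zero fun χ h => by rw [h1 χ h]; simp
    have sW : ∑ χ ∈ W, ‖χ.1 g‖ ^ 2 = 2 := by
      rw [Finset.sum_congr rfl fun χ h => show ‖χ.1 g‖ ^ 2 = 1 by rw [h3 χ h]; simp,
        Finset.sum_const, hWcard, nsmul_one]
      norm_num
    rw [split, s0, sW] at h
    have hN' : (Nat.card (cz g) : ℝ) = ((2 * p ^ 2 - 2 * p + 1 : ℤ) : ℝ) := by exact_mod_cast hN
    rw [hN', hpdef] at h
    push_cast at h ⊢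
    linarith

end Cfsg.Agent.Lib.SuzChar
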