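import Cfsg.Agent.Lib.SuzChar.Cusp
import Cfsg.Agent.Lib.Suz.MinDeg
import Cfsg.Agent.Lib.Char.Kernel

/-! Values of the cuspidal characters of the Suzuki groups on 2-elements. -/

set_option autoImplicit false
set_option linter.style.haveILetI false

namespace Cfsg.Agent.Lib.SuzChar

open Cfsg Cfsg.Agent.Lib.Suz Cfsg.Agent.Lib
open scoped ComplexConjugate
open Complex (I)

universe u

theorem exists_scalar_of_commute {G : Type*} [Group G] {V : Type*} [AddCommGroup V] [Module ℂ V]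
    [FiniteDimensional ℂ V] (ρ : Representation ℂ G V) [ρ.IsIrreducible] {z : G}
    (hz : ∀ g, ρ g * ρ z = ρ z * ρ g) : ∃ c : ℂ, ρ z = c • 1 := by
  obtain ⟨c, hc⟩ :=
    (Representation.IsIrreducible.algebraMap_intertwiningMap_bijective_of_isAlgClosed (ρ := ρ)).2
      ⟨ρ z, fun g => by rw [← Module.End.mul_eq_comp, ← Module.End.mul_eq_comp, hz g]⟩
  exact ⟨c, LinearMap.ext fun v => (congrArg (fun A : V →ₗ[ℂ] V => A v)
    (congrArg Representation.IntertwiningMap.toLinearMap hc)).symm⟩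

variable {F : Type u} [Field F] [Fintype F] [CharP F 2] {m : ℕ} (c : Ctx F m)

include c

theorem z0_ne : uG c 0 1 ≠ 1 := fun e => by
  rw [← uG_zero c] at e
  exact one_ne_zero (uG_inj c e).2

theorem f0_sq : uG c 1 0 * uG c 1 0 = uG c 0 1 := by rw [uG_sq, map_one, mul_one]

theorem f0_inv : (uG c 1 0)⁻¹ = uG c 1 1 := by rw [uG_inv, map_one, mul_one, zero_add]

/-- a constituent of the restriction to `U` -/
theorem unip_constituent [Fintype ↥(uSub c)] {ϑ : ↥(uSub c) → ℂ} (hϑ : IsIrrCharacter ↥(uSub c) ϑ) :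
    ∃ (D : ℕ) (r i z : ℤ), ϑ 1 = D ∧ ϑ ⟨uG c 1 0, uG_mem_uSub c 1 0⟩ = r + i * I ∧
      ϑ ⟨uG c 0 1, uG_mem_uSub c 0 1⟩ = z ∧ (2 : ℤ) ^ m ∣ i ∧
      ((∀ b, ϑ ⟨uG c 0 b, uG_mem_uSub c 0 b⟩ = D) ∨
        (2 ^ m ∣ D ∧ ∑ b : F, ϑ ⟨uG c 0 b, uG_mem_uSub c 0 b⟩ = 0)) := by
  classical
  have hchar := Char.isCharacter_of_isIrr hϑ
  obtain ⟨D, hD⟩ := Char.exists_natDegree hchar
  have h10 := Char.irr_degree_ne_zero hϑ
  let Z : F → ↥(uSub c) := fun s => ⟨uG c 0 s, uG_mem_uSub c 0 s⟩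
  have hZc : ∀ s, Z s ∈ Subgroup.center ↥(uSub c) := fun s => (center_uSub c _).2 ⟨s, rfl⟩
  have hmul : ∀ s g, ϑ (Z s * g) * ϑ 1 = ϑ (Z s) * ϑ g := fun s g =>
    (Char.apply_mul_of_norm_eq hchar (Char.norm_char_of_mem_center hϑ (hZc s)) g).1
  have hdvd : ∀ b, ϑ (Z b) ≠ ϑ 1 → 2 ^ m ∣ D := by
    intro b hb
    obtain ⟨d, hd, hmd⟩ := degree_uSub c hϑ hb
    have : d = D := Nat.cast_injective (hd.symm.trans hD)
    subst this
    have hcard : Nat.card ↥(uSub c) = 2 ^ (2 * (2 * m + 1)) := by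
      rw [card_uSub c, c.hF, ← pow_mul, mul_comm]
    obtain ⟨j, -, rfl⟩ := (Nat.dvd_prime_pow Nat.prime_two).1 (hcard ▸ Char.irr_degree_dvd_card hϑ hd)
    exact pow_dvd_pow 2 ((Nat.pow_le_pow_iff_right (by norm_num)).1 hmd)
  obtain ⟨n, ρ, hρ, rfl⟩ := hϑ
  haveI := hρ
  have hn : n = D := by
    rw [Representation.char_one, Module.finrank_fin_fun] at hD
    exact Nat.cast_injective hD
  subst hn
  have hZker : ∀ s, ρ.character (Z s) = ρ.character 1 → ρ (Z s) = 1 := fun s e =>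
    (Char.character_eq_degree_iff ρ (Z s)).1 (by rw [e, Representation.char_one])
  have hscal : ∀ (g : ↥(uSub c)) (t : ℂ), ρ g = t • 1 → ρ.character g = t * n := by
    intro g t e
    rw [Representation.character, e, map_smul, LinearMap.trace_one, smul_eq_mul, Module.finrank_fin_fun]
  have hnpos : n ≠ 0 := fun e => h10 (by rw [hD, e, Nat.cast_zero])
  haveI : Nontrivial (Fin n → ℂ) := by
    haveI : NeZero n := ⟨hnpos⟩
    exact Function.nontrivial
  have hval : ∀ (t : ℂ) (v : ℂ), t • (1 : Module.End ℂ (Fin n → ℂ)) = v • 1 → t = v := fun t v e =>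
    smul_left_injective ℂ (one_ne_zero : (1 : Module.End ℂ (Fin n → ℂ)) ≠ 0) e
  obtain ⟨cz, hcz⟩ := Char.exists_scalar_of_mem_center ρ (hZc 1)
  have hcz2 : cz * cz = 1 := by
    refine hval _ _ ?_
    have h11 : Z 1 * Z 1 = 1 := Subtype.ext (by simp [Z, uG_mul, add_self0, uG_zero])
    have h := congrArg ρ h11
    rw [map_mul, map_one, hcz, smul_mul_smul_comm, one_mul] at h
    rw [h, one_smul]
  obtain ⟨z, hz⟩ : ∃ z : ℤ, ρ.character (Z 1) = z := by
    rcases mul_self_eq_one_iff.1 hcz2 with e | e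
    · exact ⟨n, by rw [hscal _ _ hcz, e]; simp⟩
    · exact ⟨-n, by rw [hscal _ _ hcz, e]; simp⟩
  have hlast : (∀ b, ρ.character (Z b) = n) ∨ (2 ^ m ∣ n ∧ ∑ b : F, ρ.character (Z b) = 0) := by
    by_cases hall : ∀ b, ρ.character (Z b) = n
    · exact Or.inl hall
    push Not at hall
    obtain ⟨b, hb⟩ := hall
    have hb' : ρ.character (Z b) ≠ ρ.character 1 := by rw [hD]; exact hb
    refine Or.inr ⟨hdvd b hb', ?_⟩
    have e : (∑ s : F, ρ.character (Z s)) * ρ.character 1 = ρ.character (Z b) * ∑ s : F, ρ.character (Z s) := by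
      rw [Finset.sum_mul, Finset.mul_sum, ← Equiv.sum_comp (Equiv.addLeft b)]
      refine Finset.sum_congr rfl fun s _ => ?_
      rw [← hmul b (Z s)]
      congr 2
      exact Subtype.ext (by simp [Z, uG_mul, add_comm])
    have : (∑ s : F, ρ.character (Z s)) * (ρ.character 1 - ρ.character (Z b)) = 0 := by linear_combination e
    exact (mul_eq_zero.1 this).resolve_right (sub_ne_zero.2 (Ne.symm hb'))
  set f : ↥(uSub c) := ⟨uG c 1 0, uG_mem_uSub c 1 0⟩ with hf
  by_cases h0 : ρ.character f = 0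
  · exact ⟨n, 0, 0, z, hD, by simp [h0], hz, dvd_zero _, hlast⟩
  have hcomm : ∀ x : ↥(uSub c), ρ x * ρ f = ρ f * ρ x := by
    intro x
    obtain ⟨⟨g, a, b, rfl⟩, rfl⟩ : ∃ y, x = y := ⟨x, rfl⟩
    set s := th F m a + a with hs
    have e : (⟨uG c a b, ⟨a, b, rfl⟩⟩ : ↥(uSub c)) * f = Z s * (f * ⟨uG c a b, ⟨a, b, rfl⟩⟩) := by
      apply Subtype.ext
      simp only [Subgroup.coe_mul, hf, Z, hs, uG_mul, map_zero, map_one, mul_zero, mul_one, one_mul, zero_add,
        add_zero, add_comm a 1]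
      congr 1
      grind
    have h1 := hmul s f
    have h2 : ρ.character (Z s * f) = ρ.character f := by
      have e2 : Z s * f = ⟨uG c a b, ⟨a, b, rfl⟩⟩ * f * (⟨uG c a b, ⟨a, b, rfl⟩⟩ : ↥(uSub c))⁻¹ := by
        rw [e, ← mul_assoc (Z s), mul_inv_cancel_right]
      rw [e2, Representation.char_conj]
    rw [h2, mul_comm] at h1
    rw [← map_mul, e, map_mul, hZker s (mul_right_cancel₀ h0 h1).symm, one_mul, map_mul]
  obtain ⟨t, ht⟩ := exists_scalar_of_commute ρ hcomm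
  have ht4 : t * t = cz := by
    refine hval _ _ ?_
    rw [← hcz, show Z 1 = f * f from Subtype.ext (f0_sq c).symm, map_mul, ht, smul_mul_smul_comm, one_mul]
  have hchi := hscal f t ht
  rcases mul_self_eq_one_iff.1 hcz2 with e | e
  · rcases mul_self_eq_one_iff.1 (ht4.trans e) with e' | e'
    · exact ⟨n, n, 0, z, hD, by rw [hchi, e']; simp, hz, dvd_zero _, hlast⟩
    · exact ⟨n, -n, 0, z, hD, by rw [hchi, e']; simp, hz, dvd_zero _, hlast⟩
  · have hne : ρ.character (Z 1) ≠ ρ.character 1 := by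
      rw [hscal _ _ hcz, e, hD]
      intro h
      exact hnpos (by exact_mod_cast (show (n : ℂ) = 0 by linear_combination -(1 / 2 : ℂ) * h))
    have hd : ((2 : ℤ) ^ m) ∣ (n : ℤ) := by exact_mod_cast hdvd 1 hne
    have : t * t = I * I := by rw [ht4, e, Complex.I_mul_I]
    rcases mul_self_eq_mul_self_iff.1 this with e' | e'
    · exact ⟨n, 0, n, z, hD, by rw [hchi, e']; push_cast; ring, hz, hd, hlast⟩
    · exact ⟨n, 0, -n, z, hD, by rw [hchi, e']; push_cast; ring, hz, hd.neg_right, hlast⟩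

theorem exists_z_conj {b : F} (hb : b ≠ 0) : IsConj (uG c 0 b) (uG c 0 1) := by
  obtain ⟨-, ⟨h, hh⟩, -⟩ := theta_units_surj c b hb
  refine (isConj_iff.2 ⟨tHom c h, ?_⟩ : IsConj (uG c 0 1) (uG c 0 b)).symm
  rw [tHom_conj_uG, mul_zero, mul_one, hh]

theorem f_conj {a : F} (b : F) (ha : a ≠ 0) :
    IsConj (uG c a b) (uG c 1 0) ∨ IsConj (uG c a b) (uG c 1 0)⁻¹ := by
  classical
  obtain ⟨⟨h, hh⟩, -, -⟩ := theta_units_surj c a⁻¹ (inv_ne_zero ha)
  set b1 := (h : F) ^ 2 * th F m h * b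
  have h1 : IsConj (uG c a b) (uG c 1 b1) :=
    isConj_iff.2 ⟨tHom c h, by
      rw [tHom_conj_uG]
      congr 1
      rw [hh, inv_mul_cancel₀ ha]⟩
  let ℓ : F →+ F :=
    { toFun := fun s => th F m s + s
      map_zero' := by simp
      map_add' := fun x y => by simp only [map_add]; abel }
  have hker : Nat.card ℓ.ker = 2 := by
    have h2 : (ℓ.ker : Set F) = {0, 1} := by
      ext s
      simp only [SetLike.mem_coe, AddMonoidHom.mem_ker, Set.mem_insert_iff, Set.mem_singleton_iff]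
      constructor
      · intro e
        have e' := eq_neg_of_add_eq_zero_left (show th F m s + s = 0 from e)
        rw [CharTwo.neg_eq] at e'
        exact tits_fixed c.tits e'
      · rintro (rfl | rfl) <;> simp [ℓ, add_self0]
    rw [show Nat.card ℓ.ker = Nat.card (ℓ.ker : Set F) from rfl, Nat.card_coe_set_eq, h2,
      Set.ncard_pair zero_ne_one]
  have hidx : ℓ.range.index = 2 := by
    have e1 := AddSubgroup.card_eq_card_quotient_mul_card_addSubgroup ℓ.ker
    rw [Nat.card_congr (QuotientAddGroup.quotientKerEquivRange ℓ).toEquiv, hker] at e1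
    have e2 := AddSubgroup.index_mul_card ℓ.range
    have hpos : 0 < Nat.card ℓ.range := Nat.card_pos
    nlinarith
  have hone : (1 : F) ∉ ℓ.range := by
    rintro ⟨t, e4⟩
    replace e4 : th F m t + t = 1 := e4
    have e5 := congrArg (th F m) e4
    rw [map_add, c.tits, map_one] at e5
    have e6 : t * (t + 1) = 0 := by grind
    rcases mul_eq_zero.1 e6 with h0 | h0
    · simp [h0] at e4
    · have h0' := eq_neg_of_add_eq_zero_left h0
      rw [CharTwo.neg_eq] at h0'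
      simp [h0', add_self0] at e4
  have hU : ∀ b' s, IsConj (uG c 1 b') (uG c 1 (b' + ℓ s)) := by
    intro b' s
    refine isConj_iff.2 ⟨uG c s 0, ?_⟩
    rw [uG_inv, uG_mul, uG_mul]
    congr 1
    · grind
    · show _ = b' + (th F m s + s)
      simp only [map_add, map_one]
      grind
  rw [f0_inv]
  by_cases hb : b1 ∈ ℓ.range
  · obtain ⟨s, hs⟩ := hb
    refine Or.inl (h1.trans ?_)
    have := hU b1 s
    rwa [hs, add_self0] at this
  · obtain ⟨s, hs⟩ : b1 + 1 ∈ ℓ.range :=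
      (AddSubgroup.add_mem_iff_of_index_two hidx).2 (iff_of_false hb hone)
    refine Or.inr (h1.trans ?_)
    have := hU b1 s
    rwa [hs, ← add_assoc, add_self0, zero_add] at this

theorem uG_conj_cases {u : ↥(Cfsg.Sz F m)} (hu : u ∈ uSub c) (h1 : u ≠ 1) :
    IsConj u (uG c 0 1) ∨ IsConj u (uG c 1 0) ∨ IsConj u (uG c 1 0)⁻¹ := by
  obtain ⟨a, b, rfl⟩ := hu
  by_cases ha : a = 0
  · subst ha
    exact Or.inl (exists_z_conj c fun e => h1 (by rw [e, uG_zero]))
  · exact Or.inr (f_conj c b ha)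

theorem card_cent_z : Nat.card (Subgroup.centralizer ({uG c 0 1} : Set ↥(Cfsg.Sz F m))) = Fintype.card F ^ 2 := by
  rw [← card_uSub c]
  congr 2
  refine le_antisymm (cz_uG c (uG_mem_uSub c 0 1) (z0_ne c)) ?_
  rintro _ ⟨a, b, rfl⟩
  rw [Subgroup.mem_centralizer_singleton_iff, uG_mul, uG_mul]
  congr 1
  · rw [add_comm]
  · simp [add_comm]

theorem card_cent_f : Nat.card (Subgroup.centralizer ({uG c 1 0} : Set ↥(Cfsg.Sz F m))) = 2 * Fintype.card F := by
  have h1 : uG c 1 0 ≠ 1 := fun e => by rw [← uG_zero c] at e; exact one_ne_zero (uG_inj c e).1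
  have hiff : ∀ a b, uG c a b ∈ Subgroup.centralizer ({uG c 1 0} : Set ↥(Cfsg.Sz F m)) ↔ a = 0 ∨ a = 1 := by
    intro a b
    rw [Subgroup.mem_centralizer_singleton_iff, uG_mul, uG_mul]
    constructor
    · intro e
      have e2 := (uG_inj c e).2
      exact tits_fixed c.tits (by simp only [map_one] at e2; grind)
    · rintro (rfl | rfl) <;> simp [add_comm]
  let e : Fin 2 × F → ↥(Subgroup.centralizer ({uG c 1 0} : Set ↥(Cfsg.Sz F m))) := fun p =>
    ⟨uG c (p.1.val : F) p.2, (hiff _ _).2 (by rcases p with ⟨i, b⟩; fin_cases i <;> simp)⟩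
  have he : Function.Bijective e := by
    constructor
    · rintro ⟨i, b⟩ ⟨i', b'⟩ h
      obtain ⟨h1, rfl⟩ := uG_inj c (congrArg Subtype.val h)
      fin_cases i <;> fin_cases i' <;> simp at h1 ⊢
    · rintro ⟨g, hg⟩
      obtain ⟨a, b, rfl⟩ := cz_uG c (uG_mem_uSub c 1 0) h1 hg
      rcases (hiff a b).1 hg with rfl | rfl
      · exact ⟨(0, b), Subtype.ext (by simp [e])⟩
      · exact ⟨(1, b), Subtype.ext (by simp [e])⟩
  rw [← Nat.card_congr (Equiv.ofBijective e he), Nat.card_prod, Nat.card_fin, Nat.card_eq_fintype_card]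

theorem f0_not_real : ¬ IsConj (uG c 1 0) (uG c 1 0)⁻¹ := by
  obtain ⟨P, hP⟩ := exists_sylow c
  have h1 : uG c 1 0 ≠ 1 := fun e => by rw [← uG_zero c] at e; exact one_ne_zero (uG_inj c e).1
  rw [not_real c P _ (hP ▸ uG_mem_uSub c 1 0) h1]
  intro h2
  have := pow_orderOf_eq_one (uG c 1 0)
  rw [h2, sq, f0_sq] at this
  exact z0_ne c this

variable [DecidableEq F] [Fintype ↥(Cfsg.Sz F m)]

/-- the parameters of a cuspidal character on 2-elements -/
theorem cusp_unip {χ : IrrCharacter ↥(Cfsg.Sz F m)} (hχ : χ ∈ cusp c) :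
    ∃ a k e : ℤ, 0 ≤ a ∧ (2 : ℤ) ^ m ∣ e - a ∧ χ.1 1 = ((Fintype.card F : ℂ) - 1) * e ∧
      χ.1 (uG c 0 1) = (Fintype.card F : ℂ) * a - e ∧
      χ.1 (uG c 1 0) = -(a : ℂ) + ((2 : ℤ) ^ m * k : ℤ) * I := by
  classical
  haveI : Fintype ↥(uSub c) := Fintype.ofFinite _
  have hχc := Char.isCharacter_of_isIrr χ.2
  have hcl := Char.isClassFunction_of_isIrr χ.2
  obtain ⟨n, hn⟩ := Char.isCharacter_eq_sum (Char.isCharacter_comp hχc (uSub c).subtype)
  have hval : ∀ (u : ↥(Cfsg.Sz F m)) (hu : u ∈ uSub c), χ.1 u = ∑ ϑ, (n ϑ : ℂ) * ϑ.1 ⟨u, hu⟩ := fun u hu => by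
    have := congrFun hn ⟨u, hu⟩
    simpa using this
  choose D r i z hD hf hz hi hcase using fun ϑ : IrrCharacter ↥(uSub c) => unip_constituent c ϑ.2
  set d : ℤ := ∑ ϑ, (n ϑ : ℤ) * D ϑ with hd
  set R : ℤ := ∑ ϑ, (n ϑ : ℤ) * r ϑ with hR
  set J : ℤ := ∑ ϑ, (n ϑ : ℤ) * i ϑ with hJ
  set W : ℤ := ∑ ϑ, (n ϑ : ℤ) * z ϑ with hW
  set A : ℤ := ∑ ϑ, if ∀ b, ϑ.1 ⟨uG c 0 b, uG_mem_uSub c 0 b⟩ = D ϑ then (n ϑ : ℤ) * D ϑ else 0 with hA
  have h1 : χ.1 1 = d := by
    rw [hval 1 (one_mem _), hd]; push_cast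
    exact Finset.sum_congr rfl fun ϑ _ => by rw [← hD]; rfl
  have h2 : χ.1 (uG c 1 0) = R + J * I := by
    rw [hval _ (uG_mem_uSub c 1 0), hR, hJ]; push_cast
    rw [Finset.sum_mul, ← Finset.sum_add_distrib]
    exact Finset.sum_congr rfl fun ϑ _ => by rw [hf]; ring
  have h3 : χ.1 (uG c 0 1) = W := by
    rw [hval _ (uG_mem_uSub c 0 1), hW]; push_cast
    exact Finset.sum_congr rfl fun ϑ _ => by rw [hz]
  obtain ⟨k, hk⟩ : (2 : ℤ) ^ m ∣ J := Finset.dvd_sum fun ϑ _ => Dvd.dvd.mul_left (hi ϑ) _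
  have hdA : (2 : ℤ) ^ m ∣ d - A := by
    rw [hd, hA, ← Finset.sum_sub_distrib]
    refine Finset.dvd_sum fun ϑ _ => ?_
    split_ifs with hb
    · rw [sub_self]; exact dvd_zero _
    · rw [sub_zero]
      exact Dvd.dvd.mul_left (by exact_mod_cast ((hcase ϑ).resolve_left hb).1) _
  have hA0 : 0 ≤ A := Finset.sum_nonneg fun ϑ _ => by split_ifs <;> positivity
  have hsum : ∑ b : F, χ.1 (uG c 0 b) = (Fintype.card F : ℂ) * A := by
    simp only [fun b => hval (uG c 0 b) (uG_mem_uSub c 0 b)]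
    rw [Finset.sum_comm, hA, Int.cast_sum, Finset.mul_sum]
    refine Finset.sum_congr rfl fun ϑ _ => ?_
    rw [← Finset.mul_sum]
    split_ifs with hb
    · simp [hb]; ring
    · rw [((hcase ϑ).resolve_left hb).2]; simp
  have hzc : ∀ b : F, b ≠ 0 → χ.1 (uG c 0 b) = W := fun b hb => by
    obtain ⟨g, hg⟩ := isConj_iff.1 (exists_z_conj c hb)
    rw [← h3, ← hg, hcl]
  have hrow : ∀ a : F, a ≠ 0 → ∀ b, (χ.1 (uG c a b)).re = R := fun a ha b => by
    rcases f_conj c b ha with h | h <;> obtain ⟨g, hg⟩ := isConj_iff.1 h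
    · rw [← hcl (uG c a b) g, hg, h2]; simp
    · rw [← hcl (uG c a b) g, hg, Char.char_inv hχc, h2]; simp
  have e1 : (Fintype.card F : ℤ) * A = d + ((Fintype.card F : ℤ) - 1) * W := by
    rw [← Finset.add_sum_erase _ _ (Finset.mem_univ (0 : F)), uG_zero, h1,
      Finset.sum_congr rfl fun b hb => hzc b (Finset.mem_erase.1 hb).1, Finset.sum_const,
      Finset.card_erase_of_mem (Finset.mem_univ _), Finset.card_univ, nsmul_eq_mul,
      Nat.cast_sub Fintype.card_pos, Nat.cast_one] at hsum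
    exact_mod_cast hsum.symm
  have e2 : A + ((Fintype.card F : ℤ) - 1) * R = 0 := by
    have h := congrArg Complex.re (cusp_sum_U c hχ)
    rw [Fintype.sum_prod_type, ← Finset.add_sum_erase _ _ (Finset.mem_univ (0 : F)), hsum, Complex.add_re,
      Complex.re_sum, Finset.sum_congr rfl fun a ha => (by
        rw [Complex.re_sum, Finset.sum_congr rfl fun b _ => hrow a (Finset.mem_erase.1 ha).1 b, Finset.sum_const,
          Finset.card_univ, nsmul_eq_mul] :
        (∑ b : F, χ.1 (uG c a b)).re = (Fintype.card F : ℝ) * R),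
      Finset.sum_const, Finset.card_erase_of_mem (Finset.mem_univ _), Finset.card_univ, nsmul_eq_mul,
      Nat.cast_sub Fintype.card_pos, Nat.cast_one, Complex.zero_re] at h
    simp only [Complex.mul_re, Complex.natCast_re, Complex.natCast_im, Complex.intCast_re, Complex.intCast_im,
      mul_zero, sub_zero] at h
    have h' : (Fintype.card F : ℝ) * ((A : ℝ) + ((Fintype.card F : ℝ) - 1) * R) = 0 := by linear_combination h
    have := (mul_eq_zero.1 h').resolve_left (Nat.cast_ne_zero.2 Fintype.card_ne_zero)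
    exact_mod_cast this
  have hq1 : (0 : ℤ) < (Fintype.card F : ℤ) - 1 := by have := c.eight_le; omega
  have hR0 : 0 ≤ -R := by
    by_contra hlt
    have : ((Fintype.card F : ℤ) - 1) * R > 0 := mul_pos hq1 (by omega)
    omega
  have hd' : d = ((Fintype.card F : ℤ) - 1) * ((Fintype.card F : ℤ) * -R - W) := by linear_combination -e1 + (Fintype.card F : ℤ) * e2
  refine ⟨-R, k, (Fintype.card F : ℤ) * -R - W, hR0, ?_, ?_, ?_, ?_⟩
  · have h4 : d - A = ((Fintype.card F : ℤ) - 1) * ((Fintype.card F : ℤ) * -R - W - -R) := by linear_combination hd' - e2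
    rw [h4] at hdA
    refine IsCoprime.dvd_of_dvd_mul_left ?_ hdA
    have hq : (2 : ℤ) ^ m ∣ (Fintype.card F : ℤ) := by rw [c.hF]; push_cast; exact pow_dvd_pow _ (by omega)
    obtain ⟨u, hu⟩ := hq
    exact ⟨u, -1, by rw [hu]; ring⟩
  · rw [h1, hd']; push_cast; ring
  · rw [h3]; push_cast; ring
  · rw [h2, ← hk]; push_cast; ring

end Cfsg.Agent.Lib.SuzChar
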